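import Mathlib
import Groth.Prelude.Def_CotT2

/-!
# Basic facts on the cotangent complex of a presentation

* exactness of `L₂ → L₁ → I/I² → 0`;
* `homToT1` is surjective with kernel the coboundaries;
* the relation module modulo trivial relations surjects onto `L₂`.
-/

universe u v w t m

open TensorProduct

noncomputable section

namespace Groth.Agent.CotTLib

open _root_.CotT

variable {A : Type u} {B : Type v} {ι : Type w} {σ : Type t}
variable [CommRing A] [CommRing B] [Algebra A B]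
variable (P : Algebra.Presentation A B ι σ)

lemma exists_jmap_eq {x : P.toExtension.Ring} (hx : algebraMap P.toExtension.Ring B x = 0) :
    ∃ f : relMod P, jmap P f = x := by
  have : x ∈ LinearMap.range (jmap P) := by rw [range_jmap]; exact hx
  exact this

lemma exists_one_tmul (x : L1 P) : ∃ f : relMod P, (1 : B) ⊗ₜ f = x :=
  TensorProduct.mk_surjective P.toExtension.Ring (relMod P) B P.toExtension.algebraMap_surjective x

/-- The class of an element of the relation module in `L₂`. -/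
def cls : relKer P →ₗ[P.toExtension.Ring] L2 P :=
  (Submodule.mkQ _).restrictScalars P.toExtension.Ring ∘ₗ TensorProduct.mk P.toExtension.Ring B (relKer P) 1

lemma cls_apply (q : relKer P) : cls P q = Submodule.Quotient.mk ((1 : B) ⊗ₜ q) := rfl

lemma cls_surjective : Function.Surjective (cls P) :=
  (Submodule.mkQ_surjective _).comp
    (TensorProduct.mk_surjective P.toExtension.Ring (relKer P) B P.toExtension.algebraMap_surjective)

lemma cls_eq_zero {q : relKer P} (hq : (q : relMod P) ∈ trivRel P) : cls P q = 0 := by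
  rw [cls_apply, Submodule.Quotient.mk_eq_zero]
  exact ⟨(1 : B) ⊗ₜ ⟨q, hq⟩, rfl⟩

lemma cls_eq {q q' : relKer P} (h : (q : relMod P) - q' ∈ trivRel P) : cls P q = cls P q' := by
  rw [← sub_eq_zero, ← map_sub]; exact cls_eq_zero P h

@[simp] lemma d2_cls (q : relKer P) : d2 P (cls P q) = (1 : B) ⊗ₜ (q : relMod P) := d2_mk_tmul P 1 q

/-- A `B`-linear map out of `L₂` is determined by its values on classes of relations. -/
lemma linearMap_ext_L2 {N : Type m} [AddCommGroup N] [Module B N] {f g : L2 P →ₗ[B] N}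
    (h : ∀ q, f (cls P q) = g (cls P q)) : f = g :=
  LinearMap.ext fun z => by obtain ⟨q, rfl⟩ := cls_surjective P z; exact h q

lemma toCot_surjective : Function.Surjective (toCot P) := by
  intro y
  obtain ⟨x, rfl⟩ := Algebra.Extension.Cotangent.mk_surjective y
  obtain ⟨f, hf⟩ := exists_jmap_eq P (x := (x : P.toExtension.Ring)) x.2
  refine ⟨(1 : B) ⊗ₜ f, ?_⟩
  rw [toCot_tmul, one_smul]
  congr 1
  exact Subtype.ext hf

lemma exists_one_tmul_eq_zero_of_mem_sq {x : P.toExtension.Ring} (hx : x ∈ P.toExtension.ker ^ 2) :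
    ∃ g : relMod P, jmap P g = x ∧ (1 : B) ⊗ₜ[P.toExtension.Ring] g = (0 : L1 P) := by
  rw [pow_two] at hx
  induction hx using Submodule.mul_induction_on' with
  | mem_mul_mem a ha b hb =>
    obtain ⟨f, hf⟩ := exists_jmap_eq P (x := b) hb
    refine ⟨a • f, by rw [map_smul, hf, smul_eq_mul], ?_⟩
    rw [TensorProduct.tmul_smul, TensorProduct.smul_tmul', Algebra.smul_def,
      show algebraMap P.toExtension.Ring B a = 0 from ha, zero_mul, TensorProduct.zero_tmul]
  | add y _ z _ ihy ihz =>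
    obtain ⟨g, hg, hg'⟩ := ihy
    obtain ⟨k, hk, hk'⟩ := ihz
    exact ⟨g + k, by rw [map_add, hg, hk], by rw [TensorProduct.tmul_add, hg', hk', add_zero]⟩

/-- `L₂ → L₁ → I/I²` is exact. -/
lemma exact_d2_toCot : Function.Exact (d2 P) (toCot P) := by
  intro x
  constructor
  · intro hx
    obtain ⟨f, rfl⟩ := exists_one_tmul P x
    rw [toCot_tmul, one_smul, Algebra.Extension.Cotangent.mk_eq_zero_iff] at hx
    obtain ⟨g, hg, hg'⟩ := exists_one_tmul_eq_zero_of_mem_sq P hx
    refine ⟨cls P ⟨f - g, ?_⟩, ?_⟩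
    · change jmap P (f - g) = 0
      rw [map_sub, hg]
      exact sub_self _
    · rw [d2_cls, TensorProduct.tmul_sub, hg', sub_zero]
  · rintro ⟨z, rfl⟩
    exact LinearMap.congr_fun (toCot_comp_d2 P) z

variable (M : Type m) [AddCommGroup M] [Module B M]

lemma T0_ext {φ ψ : T0 P M} (h : ∀ i, (φ : L0 P →ₗ[B] M) (P.cotangentSpaceBasis i) =
    (ψ : L0 P →ₗ[B] M) (P.cotangentSpaceBasis i)) : φ = ψ :=
  Subtype.ext (P.cotangentSpaceBasis.ext h)

lemma cocycle_apply_d2 (c : cocycles1 P M) (z : L2 P) : (c : L1 P →ₗ[B] M) (d2 P z) = 0 :=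
  LinearMap.congr_fun (show d2Star P M (c : L1 P →ₗ[B] M) = 0 from c.2) z

lemma T1_mk_eq_zero_iff (c : cocycles1 P M) :
    (Submodule.Quotient.mk c : T1 P M) = 0 ↔ ∃ ψ : L0 P →ₗ[B] M, ψ ∘ₗ d1 P = (c : L1 P →ₗ[B] M) := by
  rw [Submodule.Quotient.mk_eq_zero]
  rfl

lemma T2_mk_eq_zero_iff (f : L2 P →ₗ[B] M) :
    (Submodule.Quotient.mk f : T2 P M) = 0 ↔ ∃ ψ : L1 P →ₗ[B] M, ψ ∘ₗ d2 P = f := by
  rw [Submodule.Quotient.mk_eq_zero]
  rfl

/-- A one-cocycle factors through `I/I²`. -/
lemma exists_factor_toCot (c : cocycles1 P M) :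
    ∃ φ : P.toExtension.Cotangent →ₗ[B] M, φ ∘ₗ toCot P = (c : L1 P →ₗ[B] M) := by
  have hker : LinearMap.ker (toCot P) ≤ LinearMap.ker (c : L1 P →ₗ[B] M) := fun x hx => by
    obtain ⟨z, rfl⟩ := (exact_d2_toCot P x).1 hx
    exact cocycle_apply_d2 P M c z
  refine ⟨(LinearMap.ker (toCot P)).liftQ _ hker ∘ₗ
    ((toCot P).quotKerEquivOfSurjective (toCot_surjective P)).symm.toLinearMap, LinearMap.ext fun x => ?_⟩
  have : ((toCot P).quotKerEquivOfSurjective (toCot_surjective P)).symm (toCot P x) =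
      Submodule.Quotient.mk x :=
    (LinearEquiv.symm_apply_eq _).2 rfl
  simp [this]

lemma homToT1_surjective : Function.Surjective (homToT1 P M) := by
  intro y
  induction y using Submodule.Quotient.induction_on with
  | H c =>
    obtain ⟨φ, hφ⟩ := exists_factor_toCot P M c
    exact ⟨φ, congrArg Submodule.Quotient.mk (Subtype.ext hφ)⟩

lemma homToT1_eq_zero_iff (φ : P.toExtension.Cotangent →ₗ[B] M) :
    homToT1 P M φ = 0 ↔ ∃ ψ : L0 P →ₗ[B] M, ψ ∘ₗ P.toExtension.cotangentComplex = φ := by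
  refine (T1_mk_eq_zero_iff P M _).trans (exists_congr fun ψ => ⟨fun h => ?_, fun h => ?_⟩)
  · refine LinearMap.ext fun y => ?_
    obtain ⟨x, rfl⟩ := toCot_surjective P y
    exact LinearMap.congr_fun h x
  · subst h
    change ψ ∘ₗ (P.toExtension.cotangentComplex ∘ₗ toCot P) = _
    rfl

end Groth.Agent.CotTLib
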