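import Groth.Agent.CotTLib.Vanish
import Groth.Agent.EGA4Lib.SmoothRegular
import Groth.Agent.S9442

/-!
# `T¹`, `T²` and smoothness over a field
-/

universe u

noncomputable section

namespace Groth.Agent.CotTLib

variable (k B : Type u) [Field k] [CommRing B] [Algebra k B] [Algebra.FiniteType k B]

/-- A smooth algebra over a field is regular. -/
theorem isRegularLocalRing_of_formallySmooth [Algebra.FormallySmooth k B] (p : Ideal B) [p.IsPrime] :
    IsRegularLocalRing (Localization.AtPrime p) := by
  have : Algebra.FinitePresentation k B := Algebra.FinitePresentation.of_finiteType.1 inferInstance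
  have : Algebra.Smooth k B := ⟨inferInstance, inferInstance⟩
  have hk : PrimeSpectrum.comap (algebraMap k B) ⟨p, inferInstance⟩ ∈ EGA4.regLocus k := by
    show IsRegularLocalRing (Localization.AtPrime _)
    have hbot : (PrimeSpectrum.comap (algebraMap k B) ⟨p, inferInstance⟩).asIdeal = ⊥ :=
      (Ideal.eq_bot_or_top _).resolve_right (PrimeSpectrum.isPrime _).ne_top
    have e := IsLocalization.atUnits k
      (S := Localization.AtPrime (PrimeSpectrum.comap (algebraMap k B) ⟨p, inferInstance⟩).asIdeal)
      (PrimeSpectrum.comap (algebraMap k B) ⟨p, inferInstance⟩).asIdeal.primeCompl (fun a ha =>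
        isUnit_iff_ne_zero.mpr fun h => ha (by rw [h]; exact zero_mem _))
    have : IsRegularLocalRing k := inferInstance
    exact IsRegularLocalRing.of_ringEquiv e.toRingEquiv
  exact EGA4Lib.mem_regLocus_of_smooth ⟨p, inferInstance⟩ hk

lemma isGeometricallyReduced_residueField [IsAlgClosed k] (q : Ideal B) [q.IsMaximal] :
    Algebra.IsGeometricallyReduced k q.ResidueField := by
  have : Algebra.IsGeometricallyReduced k k := by
    rw [Algebra.isGeometricallyReduced_field_iff]
    exact isReduced_of_injective (Algebra.TensorProduct.rid k k (AlgebraicClosure k)) (AlgEquiv.injective _)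
  have hsurj : Function.Surjective (algebraMap (B ⧸ q) q.ResidueField) :=
    (Ideal.bijective_algebraMap_quotient_residueField q).2
  letI := Ideal.Quotient.field q
  have : Module.Finite k (B ⧸ q) := finite_of_finite_type_of_isJacobsonRing k (B ⧸ q)
  have : Module.Finite k q.ResidueField :=
    Module.Finite.of_surjective (IsScalarTower.toAlgHom k (B ⧸ q) q.ResidueField).toLinearMap hsurj
  have hbij := IsAlgClosed.algebraMap_bijective_of_isIntegral (k := k) (K := q.ResidueField)
  let e : k ≃ₐ[k] q.ResidueField := AlgEquiv.ofBijective (Algebra.ofId k q.ResidueField) hbij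
  exact .of_injective e.symm.toAlgHom e.symm.injective

/-- Regular at all maximal ideals implies smooth, over an algebraically closed field. -/
theorem formallySmooth_of_regular [IsAlgClosed k]
    (h : ∀ (p : Ideal B) [p.IsPrime], IsRegularLocalRing (Localization.AtPrime p)) :
    Algebra.FormallySmooth k B := by
  have : Algebra.FinitePresentation k B := Algebra.FinitePresentation.of_finiteType.1 inferInstance
  rw [← Algebra.smoothLocus_eq_univ_iff, Set.eq_univ_iff_forall]
  intro x
  obtain ⟨q, hq, hle⟩ := Ideal.exists_le_maximal x.asIdeal x.isPrime.ne_top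
  have := isGeometricallyReduced_residueField k B q
  have hmem : (⟨q, hq.isPrime⟩ : PrimeSpectrum B) ∈ Algebra.smoothLocus k B :=
    (Groth.Agent.S9442.result k B q).2 (h q)
  exact Algebra.isOpen_smoothLocus.stableUnderGeneralization
    ((PrimeSpectrum.le_iff_specializes x ⟨q, hq.isPrime⟩).1 hle) hmem

variable {k B}

/-- The relations of a finite presentation are, near a regular point, a weakly regular sequence. -/
theorem locallyRegular_of_le {ι σ : Type u} [Finite ι] (P : Algebra.Presentation k B ι σ)
    (p : Ideal P.toExtension.Ring) [p.IsPrime] (hle : RingHom.ker (algebraMap P.toExtension.Ring B) ≤ p)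
    (h : ∀ (q : Ideal B) [q.IsPrime], q.comap (algebraMap P.toExtension.Ring B) = p →
      IsRegularLocalRing (Localization.AtPrime q)) :
    ∃ (r : ℕ) (y : Fin r → Localization.AtPrime p),
      RingTheory.Sequence.IsWeaklyRegular (Localization.AtPrime p) (List.ofFn y) ∧
      Ideal.span (Set.range fun s => algebraMap P.toExtension.Ring (Localization.AtPrime p) (CotT.rel P s)) =
        Ideal.span (Set.range y) := by
  classical
  let R := P.toExtension.Ring
  let L := Localization.AtPrime p
  let π : R →+* B := algebraMap R B
  have hspan : Ideal.span (Set.range fun s => algebraMap R L (CotT.rel P s)) =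
      (RingHom.ker π).map (algebraMap R L) := by
    have hk : RingHom.ker π = Ideal.span (Set.range (CotT.rel P)) := P.span_range_relation_eq_ker.symm
    rw [hk, Ideal.map_span, ← Set.range_comp]
    rfl
  have hsurj : Function.Surjective π := P.toExtension.algebraMap_surjective
  let q : Ideal B := p.map π
  have hqp : q.comap π = p := by
    rw [Ideal.comap_map_of_surjective _ hsurj, ← RingHom.ker_eq_comap_bot, sup_eq_left.2 hle]
  have : q.IsPrime := Ideal.map_isPrime_of_surjective hsurj hle
  have hM : p.primeCompl.map π = q.primeCompl := by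
    ext b
    constructor
    · rintro ⟨a, ha, rfl⟩ hb
      exact ha (hqp ▸ hb)
    · intro hb
      obtain ⟨a, rfl⟩ := hsurj b
      exact ⟨a, fun ha => hb (Ideal.mem_map_of_mem _ ha), rfl⟩
  have hle' : p.primeCompl ≤ q.primeCompl.comap π := by
    rw [← hM]; exact Submonoid.le_comap_map _
  let g : L →+* Localization.AtPrime q := IsLocalization.map _ π hle'
  have hg : Function.Surjective g := fun z => by
    obtain ⟨⟨b, t⟩, hz⟩ := IsLocalization.surj q.primeCompl z
    obtain ⟨a, rfl⟩ := hsurj b
    obtain ⟨t', ht', htt⟩ : (t : B) ∈ p.primeCompl.map π := by rw [hM]; exact t.2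
    refine ⟨IsLocalization.mk' L a ⟨t', ht'⟩, ?_⟩
    rw [IsLocalization.map_mk', IsLocalization.mk'_eq_iff_eq_mul, ← hz]
    exact congrArg (fun b => z * algebraMap B _ b) htt.symm
  have hker : RingHom.ker g = (RingHom.ker π).map (algebraMap R L) :=
    IsLocalization.ker_map (S := L) (Localization.AtPrime q) π hM
  have : IsRegularRing R := inferInstanceAs (IsRegularRing (MvPolynomial ι k))
  have : IsRegularLocalRing L := inferInstance
  let e : L ⧸ (RingHom.ker π).map (algebraMap R L) ≃+* Localization.AtPrime q :=
    (Ideal.quotEquivOfEq hker.symm).trans (RingHom.quotientKerEquivOfSurjective hg)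
  have := h q hqp
  have : IsRegularLocalRing (L ⧸ (RingHom.ker π).map (algebraMap R L)) :=
    IsRegularLocalRing.of_ringEquiv e.symm
  obtain ⟨n, hn, -⟩ := RegLoc.exists_natCast_eq_ringKrullDim L
  obtain ⟨s, t, hs, hst, hcard⟩ :=
    RegLoc.exists_finset_span_eq_of_quotient hn ((RingHom.ker π).map (algebraMap R L))
  refine ⟨s.card, fun i => (s.equivFin.symm i : L), ?_, ?_⟩
  · let x : Fin (s.card + t.card) → L :=
      Fin.append (fun i => (s.equivFin.symm i : L)) (fun i => (t.equivFin.symm i : L))
    have hx : Ideal.span (Set.range x) = IsLocalRing.maximalIdeal L := by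
      rw [← hst, ← Ideal.span_union]
      congr 1
      ext z
      constructor
      · rintro ⟨i, rfl⟩
        refine Fin.addCases (fun j => ?_) (fun j => ?_) i
        · simp only [x, Fin.append_left]; exact Or.inl (s.equivFin.symm j).2
        · simp only [x, Fin.append_right]; exact Or.inr (t.equivFin.symm j).2
      · rintro (hz | hz)
        · exact ⟨Fin.castAdd _ (s.equivFin ⟨z, hz⟩), by simp [x]⟩
        · exact ⟨Fin.natAdd _ (t.equivFin ⟨z, hz⟩), by simp [x]⟩
    have hreg := (RegLoc.isRegular_ofFn (n := s.card + t.card) (by rw [hcard, hn]) x hx).toIsWeaklyRegular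
    rw [List.ofFn_fin_append, RingTheory.Sequence.isWeaklyRegular_append_iff] at hreg
    exact hreg.1
  · rw [hspan, ← hs]
    congr 1
    ext z
    exact ⟨fun hz => ⟨s.equivFin ⟨z, hz⟩, by simp⟩, by rintro ⟨i, rfl⟩; exact (s.equivFin.symm i).2⟩

/-- The relations of a finite presentation of a regular algebra are locally a weakly regular sequence. -/
theorem locallyRegular {ι σ : Type u} [Finite ι] (P : Algebra.Presentation k B ι σ)
    (h : ∀ (q : Ideal B) [q.IsPrime], IsRegularLocalRing (Localization.AtPrime q))
    (p : Ideal P.toExtension.Ring) [p.IsMaximal] :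
    ∃ (r : ℕ) (y : Fin r → Localization.AtPrime p),
      RingTheory.Sequence.IsWeaklyRegular (Localization.AtPrime p) (List.ofFn y) ∧
      Ideal.span (Set.range fun s => algebraMap P.toExtension.Ring (Localization.AtPrime p) (CotT.rel P s)) =
        Ideal.span (Set.range y) := by
  classical
  let R := P.toExtension.Ring
  let L := Localization.AtPrime p
  let π : R →+* B := algebraMap R B
  have hspan : Ideal.span (Set.range fun s => algebraMap R L (CotT.rel P s)) =
      (RingHom.ker π).map (algebraMap R L) := by
    have hk : RingHom.ker π = Ideal.span (Set.range (CotT.rel P)) := P.span_range_relation_eq_ker.symm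
    rw [hk, Ideal.map_span, ← Set.range_comp]
    rfl
  by_cases hle : RingHom.ker π ≤ p
  · exact locallyRegular_of_le P p hle fun q _ _ => h q
  · refine ⟨1, fun _ => 1, ?_, ?_⟩
    · rw [show List.ofFn (fun _ : Fin 1 => (1 : L)) = [1] from rfl, RingTheory.Sequence.isWeaklyRegular_singleton_iff]
      exact IsSMulRegular.one _
    · obtain ⟨a, ha, hap⟩ := SetLike.not_le_iff_exists.1 hle
      rw [hspan, Set.range_const, Ideal.span_singleton_one]
      exact Ideal.eq_top_of_isUnit_mem _ (Ideal.mem_map_of_mem _ ha)
        (IsLocalization.map_units L (⟨a, hap⟩ : p.primeCompl))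

/-- `T²` of a smooth algebra over a field vanishes. -/
theorem subsingleton_T2_of_smooth [Algebra.FormallySmooth k B] (M : Type u) [AddCommGroup M] [Module B M] :
    Subsingleton (CotT.T2 (CotT.canon k B) M) := by
  obtain ⟨n, π, hπ⟩ := Algebra.FiniteType.iff_quotient_mvPolynomial''.1 ‹Algebra.FiniteType k B›
  let v : ULift.{u} (Fin n) → B := fun i => π (MvPolynomial.X i.down)
  have hv : Function.Surjective (MvPolynomial.aeval (R := k) v) := fun b => by
    obtain ⟨a, rfl⟩ := hπ b
    refine ⟨MvPolynomial.rename ULift.up a, ?_⟩
    rw [MvPolynomial.aeval_rename]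
    exact AlgHom.congr_fun (MvPolynomial.algHom_ext fun i => by simp [v]) a
  let G := Algebra.Generators.ofSurjective v hv
  let P : Algebra.Presentation k B (ULift.{u} (Fin n)) G.ker :=
    { toGenerators := G
      relation := Subtype.val
      span_range_relation_eq_ker := by rw [Subtype.range_coe]; exact Ideal.span_eq _ }
  exact subsingleton_T2_of_locallyRegular P
    (fun p _ => locallyRegular P (fun q _ => isRegularLocalRing_of_formallySmooth k B q) p) M

end Groth.Agent.CotTLib
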