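import Groth.Agent.CotTLib.Vanish
import Groth.Agent.CMSeq.Basic
import Groth.Agent.Depth.CM

/-!
# `T²` and complete intersections
-/

universe u v

open TensorProduct RingTheory.Sequence IsLocalRing

noncomputable section

namespace Groth.Agent.CotTLib

open _root_.CotT

section Koszul

variable {S : Type u} [CommRing S]

/-- The first coordinates and the last coordinate of a trivial relation. -/
lemma koszul_succ {r : ℕ} (y : Fin (r + 1) → S) (k : Fin (r + 1) →₀ S) (hk : k ∈ koszul y) :
    ∃ (k' : Fin r →₀ S) (w : Fin r →₀ S), k' ∈ koszul (fun i => y i.castSucc) ∧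
      (∀ i, k i.castSucc = k' i + y (Fin.last r) * w i) ∧
      k (Fin.last r) = -jf (fun i => y i.castSucc) w := by
  classical
  induction hk using Submodule.span_induction with
  | mem x hx =>
    obtain ⟨a, b, rfl⟩ := hx
    let a' : Fin r →₀ S := Finsupp.equivFunOnFinite.symm fun i => a i.castSucc
    let b' : Fin r →₀ S := Finsupp.equivFunOnFinite.symm fun i => b i.castSucc
    have hj : ∀ (c : Fin (r + 1) →₀ S) (c' : Fin r →₀ S), (∀ i, c' i = c i.castSucc) →
        jf y c = jf (fun i => y i.castSucc) c' + c (Fin.last r) * y (Fin.last r) := fun c c' h => by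
      rw [Finsupp.linearCombination_apply, Finsupp.linearCombination_apply,
        Finsupp.sum_fintype c (fun i a => a • y i) (fun i => zero_smul _ _),
        Finsupp.sum_fintype c' (fun i a => a • y i.castSucc) (fun i => zero_smul _ _), Fin.sum_univ_castSucc]
      simp [h]
    have ha := hj a a' fun i => rfl
    have hb := hj b b' fun i => rfl
    refine ⟨_, a (Fin.last r) • b' - b (Fin.last r) • a', mem_koszul_of_gen _ a' b', fun i => ?_, ?_⟩
    · simp only [Finsupp.sub_apply, Finsupp.smul_apply, smul_eq_mul, ha, hb,
        show a' i = a i.castSucc from rfl, show b' i = b i.castSucc from rfl]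
      ring
    · simp only [Finsupp.sub_apply, Finsupp.smul_apply, smul_eq_mul, ha, hb, map_sub, map_smul]
      ring
  | zero => exact ⟨0, 0, Submodule.zero_mem _, by simp, by simp⟩
  | add x z _ _ hx hz =>
    obtain ⟨p, w, hp, h1, h2⟩ := hx
    obtain ⟨p', w', hp', h1', h2'⟩ := hz
    refine ⟨p + p', w + w', Submodule.add_mem _ hp hp', fun i => ?_, ?_⟩
    · simp only [Finsupp.add_apply, h1, h1']; ring
    · simp only [Finsupp.add_apply, h2, h2', map_add]; ring
  | smul c x _ hx =>
    obtain ⟨p, w, hp, h1, h2⟩ := hx
    refine ⟨c • p, c • w, Submodule.smul_mem _ _ hp, fun i => ?_, ?_⟩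
    · simp only [Finsupp.smul_apply, smul_eq_mul, h1]; ring
    · simp only [Finsupp.smul_apply, smul_eq_mul, h2, map_smul]; ring

/-- In a Noetherian local ring a family in the maximal ideal with only trivial relations is a weakly
regular sequence. -/
theorem isWeaklyRegular_of_ker_le_koszul [IsLocalRing S] [IsNoetherianRing S] :
    ∀ {r : ℕ} (y : Fin r → S), (∀ i, y i ∈ maximalIdeal S) → LinearMap.ker (jf y) ≤ koszul y →
      IsWeaklyRegular S (List.ofFn y) := by
  intro r
  induction r with
  | zero => intro y _ _; simp
  | succ r ih =>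
    intro y hy h
    let y' : Fin r → S := fun i => y i.castSucc
    let ι : (Fin r →₀ S) →ₗ[S] (Fin (r + 1) →₀ S) := Finsupp.lmapDomain S S Fin.castSucc
    have hι : jf y ∘ₗ ι = jf y' := Finsupp.lhom_ext fun i b => by simp [ι, y']
    have hι_apply : ∀ (c : Fin r →₀ S) i, ι c i.castSucc = c i := fun c i => by
      rw [Finsupp.lmapDomain_apply, Finsupp.mapDomain_apply (Fin.castSucc_injective r)]
    have hι_last : ∀ c : Fin r →₀ S, ι c (Fin.last r) = 0 := fun c => by
      rw [Finsupp.lmapDomain_apply, Finsupp.mapDomain_notin_range _ _ (by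
        rintro ⟨j, hj⟩; exact Fin.castSucc_ne_last j hj)]
    have hQ : LinearMap.ker (jf y') ≤ koszul y' := by
      refine Submodule.le_of_le_smul_of_le_jacobson_bot (I := maximalIdeal S) (IsNoetherian.noetherian _)
        (maximalIdeal_le_jacobson _) fun c hc => ?_
      obtain ⟨k', w, hk', hcoord, hlast⟩ := koszul_succ y (ι c) (h (by
        rw [LinearMap.mem_ker, ← LinearMap.comp_apply, hι]; exact hc))
      rw [hι_last] at hlast
      have hcw : c = k' + y (Fin.last r) • w := Finsupp.ext fun i => by
        rw [← hι_apply c i, hcoord i, Finsupp.add_apply, Finsupp.smul_apply, smul_eq_mul]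
      rw [hcw]
      exact Submodule.add_mem_sup hk'
        (Submodule.smul_mem_smul (hy _) (LinearMap.mem_ker.2 (neg_eq_zero.1 hlast.symm)))
    rw [List.ofFn_succ', List.concat_eq_append, isWeaklyRegular_append_iff, isWeaklyRegular_singleton_iff]
    refine ⟨ih y' (fun i => hy _) hQ, ?_⟩
    rw [Ideal.smul_eq_mul, Ideal.mul_top]
    rw [isSMulRegular_quotient_iff_mem_of_smul_mem]
    intro x hx
    have hI : Ideal.ofList (List.ofFn y') = Ideal.span (Set.range y') := by
      rw [Ideal.ofList]; congr 1; ext z; simp
    rw [hI] at hx ⊢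
    obtain ⟨c, hc⟩ := Finsupp.mem_span_range_iff_exists_finsupp.1 hx
    let d : Fin (r + 1) →₀ S := ι c - Finsupp.single (Fin.last r) x
    have hd : d ∈ LinearMap.ker (jf y) := by
      rw [LinearMap.mem_ker, map_sub, ← LinearMap.comp_apply, hι, Finsupp.linearCombination_single,
        show jf y' c = _ from hc, smul_eq_mul, smul_eq_mul, mul_comm, sub_self]
    obtain ⟨k', w, -, -, hlast⟩ := koszul_succ y d (h hd)
    have : x = jf y' w := by
      have h1 : d (Fin.last r) = -x := by simp [d, hι_last]
      rw [h1] at hlast
      exact neg_injective hlast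
    rw [this]
    exact Finsupp.mem_span_range_iff_exists_finsupp.2 ⟨w, rfl⟩

end Koszul

section Pres

variable {A B : Type u} [CommRing A] [CommRing B] [Algebra A B]

/-- A surjection `A → B` with generators of the kernel as a presentation without variables. -/
theorem exists_presentation_of_surjective (hs : Function.Surjective (algebraMap A B)) {σ : Type v} (f : σ → A)
    (hf : Ideal.span (Set.range f) = RingHom.ker (algebraMap A B)) :
    ∃ P : Algebra.Presentation A B PEmpty.{u + 1} σ,
      ∀ s, rel P s = (MvPolynomial.C (f s) : MvPolynomial PEmpty.{u + 1} A) := by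
  let v : PEmpty.{u + 1} → B := PEmpty.elim
  have haeval : ∀ a, MvPolynomial.aeval (R := A) v (MvPolynomial.C a) = algebraMap A B a := fun a =>
    MvPolynomial.aeval_C _ a
  have hsurj : Function.Surjective (MvPolynomial.aeval (R := A) v) := fun b => by
    obtain ⟨a, rfl⟩ := hs b
    exact ⟨_, haeval a⟩
  let G := Algebra.Generators.ofSurjective v hsurj
  have hker : Ideal.span (Set.range fun s => (MvPolynomial.C (f s) : MvPolynomial PEmpty.{u + 1} A)) = G.ker := by
    rw [Algebra.Generators.ker_eq_ker_aeval_val]
    refine le_antisymm (Ideal.span_le.2 ?_) fun x hx => ?_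
    · rintro _ ⟨s, rfl⟩
      refine (haeval _).trans ?_
      rw [← RingHom.mem_ker, ← hf]
      exact Ideal.subset_span ⟨s, rfl⟩
    · obtain ⟨a, rfl⟩ := (MvPolynomial.isEmptyRingEquiv A PEmpty.{u + 1}).symm.surjective x
      have ha : a ∈ Ideal.span (Set.range f) := by
        rw [hf, RingHom.mem_ker]
        exact (haeval a).symm.trans hx
      have h1 := Ideal.mem_map_of_mem (MvPolynomial.C : A →+* MvPolynomial PEmpty.{u + 1} A) ha
      rw [Ideal.map_span, ← Set.range_comp] at h1
      exact h1
  exact ⟨{ toGenerators := G, relation := _, span_range_relation_eq_ker := hker }, fun _ => rfl⟩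

/-- If `T²(B/A, -)` vanishes, a minimal generating family of the kernel has only trivial relations. -/
theorem ker_le_koszul_of_T2 [IsLocalRing A] [IsNoetherianRing A] (hs : Function.Surjective (algebraMap A B))
    {r : ℕ} (y : Fin r → A) (hy : Ideal.span (Set.range y) = RingHom.ker (algebraMap A B))
    (hle : RingHom.ker (algebraMap A B) ≤ maximalIdeal A)
    (hmin : ∀ c : Fin r →₀ A, jf y c = 0 → ∀ i, c i ∈ maximalIdeal A)
    (hT : ∀ (M : Type u) [AddCommGroup M] [Module B M], Subsingleton (T2 (canon A B) M)) :
    LinearMap.ker (jf y) ≤ koszul y := by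
  obtain ⟨P, hP⟩ := exists_presentation_of_surjective hs y hy
  let e : A ≃+* P.toExtension.Ring := (MvPolynomial.isEmptyRingEquiv A PEmpty.{u + 1}).symm
  have he : ∀ a, e a = (MvPolynomial.C a : MvPolynomial PEmpty.{u + 1} A) := fun _ => rfl
  have hmap : ∀ a, algebraMap P.toExtension.Ring B (e a) = algebraMap A B a := fun a => by
    rw [algebraMap_toExtension, he]
    exact MvPolynomial.aeval_C _ a
  haveI : IsNoetherianRing P.toExtension.Ring := isNoetherianRing_of_ringEquiv A e
  have := hT (L2 P)
  have hT' : Subsingleton (T2 P (L2 P)) := (T2equiv P (L2 P) (canon A B)).toEquiv.subsingleton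
  obtain ⟨ψ, hψ⟩ := (T2_mk_eq_zero_iff P (L2 P) LinearMap.id).1 (Subsingleton.elim _ _)
  have : IsLocalRing B :=
    haveI : Nontrivial B := (subsingleton_or_nontrivial B).resolve_left fun h =>
      (maximalIdeal.isMaximal A).ne_top (top_le_iff.1 (fun a _ => hle (Subsingleton.elim (algebraMap A B a) 0)))
    IsLocalRing.of_surjective' _ hs
  have hjf : ∀ c : relMod P, e.symm (jmap P c) = jf y (Finsupp.mapRange e.symm (map_zero _) c) := fun c => by
    induction c using Finsupp.induction_linear with
    | zero => simp
    | add a b ha hb => rw [map_add, map_add, ha, hb, Finsupp.mapRange_add (map_add e.symm), map_add]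
    | single s r =>
      rw [jmap_single, Finsupp.mapRange_single, Finsupp.linearCombination_single, map_mul, hP, smul_eq_mul,
        show (MvPolynomial.C (y s) : MvPolynomial PEmpty.{u + 1} A) = e (y s) from rfl, e.symm_apply_apply]
  have hd2 : ∀ z : L2 P, ∀ s, (L1basis P).repr (d2 P z) s ∈ maximalIdeal B := fun z s => by
    obtain ⟨q, rfl⟩ := cls_surjective P z
    have h0 : jf y (Finsupp.mapRange e.symm (map_zero _) (q : relMod P)) = 0 := by
      rw [← hjf, show jmap P (q : relMod P) = 0 from q.2, map_zero]
    have h1 := hmin _ h0 s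
    rw [Finsupp.mapRange_apply] at h1
    rw [d2_cls]
    simp only [L1basis, Algebra.TensorProduct.basis_repr_tmul, one_smul, Finsupp.mapRange_apply,
      Finsupp.basisSingleOne_repr, LinearEquiv.refl_apply]
    rw [← e.apply_symm_apply ((q : relMod P) s), hmap, ← IsLocalRing.map_maximalIdeal_of_surjective _ hs]
    exact Ideal.mem_map_of_mem _ h1
  have hsub : Subsingleton (L2 P) := by
    haveI : Module.Finite P.toExtension.Ring (relKer P) := Module.Finite.iff_fg.2 (IsNoetherian.noetherian _)
    haveI : Module.Finite B (L2 P) := inferInstance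
    refine subsingleton_of_forall_eq 0 fun z => ?_
    have htop : (⊤ : Submodule B (L2 P)) = ⊥ := by
      refine Submodule.eq_bot_of_le_smul_of_le_jacobson_bot (maximalIdeal B) ⊤ Module.Finite.fg_top ?_
        (maximalIdeal_le_jacobson _)
      intro z _
      rw [show z = ψ (d2 P z) from (LinearMap.congr_fun hψ z).symm, ← (L1basis P).linearCombination_repr (d2 P z),
        Finsupp.linearCombination_apply, Finsupp.sum, map_sum]
      exact Submodule.sum_mem _ fun s _ => by
        rw [map_smul]; exact Submodule.smul_mem_smul (hd2 z s) Submodule.mem_top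
    have hz : z ∈ (⊤ : Submodule B (L2 P)) := trivial
    rw [htop] at hz
    exact hz
  intro c hc
  let q : relMod P := Finsupp.mapRange e (map_zero _) c
  have hqc : Finsupp.mapRange e.symm (map_zero _) q = c := Finsupp.ext fun s => by simp [q]
  have hq : q ∈ relKer P := e.symm.injective (by rw [hjf, hqc, map_zero]; exact hc)
  have htriv : q ∈ trivRel P := mem_trivRel_of_cls_eq_zero P (q := ⟨q, hq⟩) (Subsingleton.elim _ _)
  have key : ∀ x ∈ trivRel P, Finsupp.mapRange e.symm (map_zero _) x ∈ koszul y := fun x hx => by
    induction hx using Submodule.span_induction with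
    | mem x hx =>
      obtain ⟨a, b, rfl⟩ := hx
      convert mem_koszul_of_gen y (Finsupp.mapRange e.symm (map_zero _) a) (Finsupp.mapRange e.symm (map_zero _) b) using 1
      ext s
      simp [← hjf]
    | zero => simp
    | add a b _ _ ha hb => rw [Finsupp.mapRange_add (map_add e.symm)]; exact Submodule.add_mem _ ha hb
    | smul r a _ ha =>
      rw [show Finsupp.mapRange e.symm (map_zero _) (r • a) = e.symm r • Finsupp.mapRange e.symm (map_zero _) a from
        Finsupp.ext fun s => by simp]
      exact Submodule.smul_mem _ _ ha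
  rw [← hqc]
  exact key q htriv

end Pres

section Transfer

variable {k A B : Type u} [CommRing k] [CommRing A] [CommRing B] [Algebra k A] [Algebra A B] [Algebra k B]
variable [IsScalarTower k A B]

/-- If `T¹(A/k)` and `T²(A/k)` vanish then `T²(B/A) = T²(B/k)`. -/
theorem subsingleton_T2_iff_of_vanish
    (h : ∀ (N : Type u) [AddCommGroup N] [Module A N],
      Subsingleton (T1 (canon k A) N) ∧ Subsingleton (T2 (canon k A) N))
    (M : Type u) [AddCommGroup M] [Module B M] :
    Subsingleton (T2 (canon A B) M) ↔ Subsingleton (T2 (canon k B) M) := by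
  letI : Module A M := Module.compHom M (algebraMap A B)
  haveI : IsScalarTower A B M := IsScalarTower.of_compHom A B M
  obtain ⟨-, -, -, h2, δ₀, δ₁, -, -, -, hd⟩ := nine_comp (canon k A) (canon A B) M
  obtain ⟨hs1, hs2⟩ := h M
  let o := (outHom (canon k A) (canon A B)).T2pull M
  have hinj : Function.Injective o := (injective_iff_map_eq_zero _).2 fun x hx => by
    obtain ⟨w, rfl⟩ := (hd x).1 hx
    rw [Subsingleton.elim w 0, map_zero]
  have hsurj : Function.Surjective o := fun x => (h2 x).1 (Subsingleton.elim _ _)
  exact (Equiv.ofBijective o ⟨hinj, hsurj⟩).subsingleton_congr.trans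
    (T2equiv (compP (canon k A) (canon A B)) M (canon k B)).toEquiv.subsingleton_congr

end Transfer

end Groth.Agent.CotTLib
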