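import Groth.Agent.CotTLib.LES

/-!
# The composite presentation and the exact sequence of its dual complexes

For presentations `P` of `B` over `A` and `P'` of `C` over `B`, the composite `Q` carries morphisms
`inHom : P → Q` and `outHom : Q → P'`; on `Hom(L•, M)` the sequence
`0 → P' → Q → P` is exact, and right exact in degrees `0`, `1`.
-/

universe u w t w' t' m

open TensorProduct

noncomputable section

namespace Groth.Agent.CotTLib

open _root_.CotT

variable {A B C : Type u} {ι : Type w} {σ : Type t} {ι' : Type w'} {σ' : Type t'}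
variable [CommRing A] [CommRing B] [CommRing C] [Algebra A B] [Algebra B C] [Algebra A C] [IsScalarTower A B C]
variable (P : Algebra.Presentation A B ι σ) (P' : Algebra.Presentation B C ι' σ')

/-- The composite presentation. -/
abbrev compP : Algebra.Presentation A C (ι' ⊕ ι) (σ' ⊕ σ) := P'.comp P

lemma toComp_apply (x : MvPolynomial ι A) :
    (P'.toGenerators.toComp P.toGenerators).toAlgHom x = MvPolynomial.rename Sum.inr x :=
  AlgHom.congr_fun (MvPolynomial.algHom_ext (f := (P'.toGenerators.toComp P.toGenerators).toAlgHom)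
    (g := MvPolynomial.rename Sum.inr) fun i =>
      (MvPolynomial.aeval_X (R := A) (S₁ := MvPolynomial (ι' ⊕ ι) A) _ i).trans
        (MvPolynomial.rename_X _ _).symm) x

lemma aeval_C_val (x : MvPolynomial ι A) :
    MvPolynomial.aeval (R := A) (Sum.elim MvPolynomial.X (MvPolynomial.C ∘ P.val))
      (MvPolynomial.rename (Sum.inr : ι → ι' ⊕ ι) x) = (MvPolynomial.C (MvPolynomial.aeval P.val x) : MvPolynomial ι' B) := by
  rw [MvPolynomial.aeval_rename, Sum.elim_comp_inr]
  exact (MvPolynomial.comp_aeval_apply P.val (IsScalarTower.toAlgHom A B (MvPolynomial ι' B)) x).symm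

/-- The inclusion of `P` in the composite. -/
def inHom : PresHom P (compP P P') where
  hom := P'.toGenerators.toComp P.toGenerators
  relVal r := Finsupp.single (Sum.inr r) 1
  jmap_relVal r := by
    rw [jmap_single, one_mul]
    exact (P'.comp_relation_inr P r).trans (toComp_apply P P' (P.relation r)).symm

lemma rel_inr (r : σ) : rel (compP P P') (Sum.inr r) = (inHom P P').ringHom (rel P r) :=
  (P'.comp_relation_inr P r).trans (toComp_apply P P' (P.relation r)).symm

/-- The projection of the composite onto `P'`. -/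
def outHom : PresHom (compP P P') P' where
  hom := P'.toGenerators.ofComp P.toGenerators
  relVal := Sum.elim (fun r => Finsupp.single r 1) fun _ => 0
  jmap_relVal s := by
    cases s with
    | inl r =>
      rw [Sum.elim_inl, jmap_single, one_mul]
      exact (P'.comp_aeval_relation_inl P r).symm
    | inr r =>
      rw [Sum.elim_inr, map_zero]
      change (0 : MvPolynomial ι' B) = MvPolynomial.aeval (R := A) (Sum.elim MvPolynomial.X (MvPolynomial.C ∘ P.val))
        (MvPolynomial.rename Sum.inr (P.relation r))
      have h0 : MvPolynomial.aeval P.val (P.relation r) = 0 := P.aeval_val_relation r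
      rw [aeval_C_val, h0, map_zero]

lemma outHom_ringHom_surjective : Function.Surjective (outHom P P').ringHom := by
  intro p
  induction p using ringInduction with
  | C b =>
    obtain ⟨x, hx⟩ := P.toExtension.algebraMap_surjective b
    rw [algebraMap_toExtension] at hx
    refine ⟨MvPolynomial.rename Sum.inr x, ?_⟩
    change MvPolynomial.aeval (R := A) (Sum.elim MvPolynomial.X (MvPolynomial.C ∘ P.val))
      (MvPolynomial.rename Sum.inr x) = (MvPolynomial.C b : MvPolynomial ι' B)
    rw [aeval_C_val, hx]
  | add p q hp hq =>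
    obtain ⟨a, rfl⟩ := hp
    obtain ⟨b, rfl⟩ := hq
    exact ⟨a + b, map_add _ _ _⟩
  | mul_X p i hp =>
    obtain ⟨a, rfl⟩ := hp
    refine ⟨a * Xv (compP P P') (Sum.inl i), ?_⟩
    rw [map_mul]
    congr 1
    exact MvPolynomial.aeval_X (R := A) (S₁ := MvPolynomial ι' B) _ (Sum.inl i)

/-- Extend along `inl`. -/
abbrev eL : (σ' →₀ (compP P P').toExtension.Ring) →ₗ[(compP P P').toExtension.Ring] relMod (compP P P') :=
  Finsupp.lmapDomain _ _ Sum.inl

/-- Extend along `inr`. -/
abbrev eR : (σ →₀ (compP P P').toExtension.Ring) →ₗ[(compP P P').toExtension.Ring] relMod (compP P P') :=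
  Finsupp.lmapDomain _ _ Sum.inr

lemma exists_eL_add_eR (f : relMod (compP P P')) : ∃ a b, f = eL P P' a + eR P P' b := by
  classical
  induction f using Finsupp.induction_linear with
  | zero => exact ⟨0, 0, by simp⟩
  | add f g hf hg =>
    obtain ⟨a, b, rfl⟩ := hf
    obtain ⟨a', b', rfl⟩ := hg
    exact ⟨a + a', b + b', by rw [map_add, map_add]; abel⟩
  | single s r =>
    cases s with
    | inl s => exact ⟨Finsupp.single s r, 0, by simp [Finsupp.lmapDomain]⟩
    | inr s => exact ⟨0, Finsupp.single s r, by simp [Finsupp.lmapDomain]⟩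

lemma out_eR (g : σ →₀ (compP P P').toExtension.Ring) : (outHom P P').relModMap (eR P P' g) = 0 := by
  induction g using Finsupp.induction_linear with
  | zero => simp
  | add f g hf hg => rw [map_add, map_add, hf, hg, add_zero]
  | single s r =>
    rw [Finsupp.lmapDomain_apply, Finsupp.mapDomain_single, PresHom.relModMap_single]
    exact smul_zero _

lemma out_eL (g : σ' →₀ (compP P P').toExtension.Ring) :
    (outHom P P').relModMap (eL P P' g) = Finsupp.mapRange (outHom P P').ringHom (map_zero _) g := by
  induction g using Finsupp.induction_linear with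
  | zero => simp
  | add f g hf hg => rw [map_add, map_add, hf, hg, Finsupp.mapRange_add (map_add _)]
  | single s r =>
    rw [Finsupp.lmapDomain_apply, Finsupp.mapDomain_single, PresHom.relModMap_single, Finsupp.mapRange_single]
    change (outHom P P').ringHom r • (Finsupp.single s 1 : relMod P') = _
    rw [Finsupp.smul_single, smul_eq_mul, mul_one]

lemma relModMap_out_surjective : Function.Surjective (outHom P P').relModMap := by
  intro g
  obtain ⟨a, ha⟩ := Finsupp.mapRange_surjective _ (map_zero _) (outHom_ringHom_surjective P P') g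
  exact ⟨eL P P' a, by rw [out_eL, ha]⟩

lemma exists_eR_of_out_eq_zero {x : (compP P P').toExtension.Ring} (hx : (outHom P P').ringHom x = 0) :
    ∃ g, jmap (compP P P') (eR P P' g) = x := by
  have h : x ∈ P.ker.map (P'.toGenerators.toComp P.toGenerators).toAlgHom := by
    rw [Algebra.Generators.map_toComp_ker]
    exact hx
  rw [← P.span_range_relation_eq_ker, Ideal.map_span, ← Set.range_comp] at h
  have h' : x ∈ Submodule.span (compP P P').toExtension.Ring
      (Set.range fun r => rel (compP P P') (Sum.inr r)) := by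
    rw [show (fun r => rel (compP P P') (Sum.inr r)) = fun r => (inHom P P').ringHom (rel P r) from
      funext (rel_inr P P')]
    exact h
  obtain ⟨g, hg⟩ := Finsupp.mem_span_range_iff_exists_finsupp.1 h'
  refine ⟨g, ?_⟩
  rw [Finsupp.lmapDomain_apply, jmap, Finsupp.linearCombination_mapDomain, Finsupp.linearCombination_apply, ← hg]
  rfl

lemma exists_trivRel_lift {t' : relMod P'} (ht : t' ∈ trivRel P') :
    ∃ t ∈ trivRel (compP P P'), (outHom P P').relModMap t = t' := by
  induction ht using Submodule.span_induction with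
  | mem x hx =>
    obtain ⟨a, b, rfl⟩ := hx
    obtain ⟨a, rfl⟩ := relModMap_out_surjective P P' a
    obtain ⟨b, rfl⟩ := relModMap_out_surjective P P' b
    refine ⟨_, Submodule.subset_span ⟨a, b, rfl⟩, ?_⟩
    rw [map_sub, LinearMap.map_smulₛₗ, LinearMap.map_smulₛₗ, PresHom.jmap_relModMap, PresHom.jmap_relModMap]
  | zero => exact ⟨0, Submodule.zero_mem _, map_zero _⟩
  | add x y _ _ hx hy =>
    obtain ⟨a, ha, rfl⟩ := hx
    obtain ⟨b, hb, rfl⟩ := hy
    exact ⟨a + b, Submodule.add_mem _ ha hb, map_add _ _ _⟩
  | smul r x _ hx =>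
    obtain ⟨a, ha, rfl⟩ := hx
    obtain ⟨r, rfl⟩ := outHom_ringHom_surjective P P' r
    exact ⟨r • a, Submodule.smul_mem _ _ ha, LinearMap.map_smulₛₗ _ _ _⟩

lemma relKerMap_out_surjective : Function.Surjective (outHom P P').relKerMap := by
  intro q'
  obtain ⟨f, hf⟩ := relModMap_out_surjective P P' (q' : relMod P')
  obtain ⟨g, hg⟩ := exists_eR_of_out_eq_zero P P' (x := jmap _ f) (by
    rw [← PresHom.jmap_relModMap, hf]
    exact q'.2)
  refine ⟨⟨f - eR P P' g, ?_⟩, Subtype.ext ?_⟩
  · change jmap _ (f - eR P P' g) = 0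
    rw [map_sub, hg]
    exact sub_self _
  · rw [PresHom.relKerMap_coe, map_sub, hf, out_eR, sub_zero]

/-- The `R_Q`-span of the relations coming from `P`. -/
abbrev inSpan : Submodule (compP P P').toExtension.Ring (relKer (compP P P')) :=
  Submodule.span _ (Set.range (inHom P P').relKerMap)

lemma relModMap_in (f : relMod P) :
    (inHom P P').relModMap f = eR P P' (Finsupp.mapRange (inHom P P').ringHom (map_zero _) f) := by
  induction f using Finsupp.induction_linear with
  | zero => simp
  | add f g hf hg => rw [map_add, hf, hg, Finsupp.mapRange_add (map_add _), map_add]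
  | single s r =>
    rw [PresHom.relModMap_single, Finsupp.mapRange_single, Finsupp.lmapDomain_apply, Finsupp.mapDomain_single]
    change _ • Finsupp.single (Sum.inr s) 1 = _
    rw [Finsupp.smul_single, smul_eq_mul, mul_one]

/-- Relations among the extended relations of `P` come from those of `P`. -/
lemma mem_inSpan (G : σ →₀ (compP P P').toExtension.Ring) (hG : eR P P' G ∈ relKer (compP P P')) :
    (⟨eR P P' G, hG⟩ : relKer (compP P P')) ∈ inSpan P P' := by
  classical
  let Φ : (compP P P').toExtension.Ring ≃+* MvPolynomial ι' P.toExtension.Ring :=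
    (MvPolynomial.sumAlgEquiv A ι' ι).toRingEquiv
  have hΦ : ∀ x, Φ ((inHom P P').ringHom x) = MvPolynomial.C x := fun x => by
    change (MvPolynomial.sumAlgEquiv A ι' ι) ((P'.toGenerators.toComp P.toGenerators).toAlgHom x) = _
    rw [toComp_apply]
    exact AlgHom.congr_fun (MvPolynomial.sumAlgEquiv_comp_rename_inr A ι' ι) x
  let S : Finset (ι' →₀ ℕ) := G.support.biUnion fun s => (Φ (G s)).support
  let c : (ι' →₀ ℕ) → relMod P := fun m =>
    Finsupp.mapRange (fun x => MvPolynomial.coeff m (Φ x)) (by simp) G
  have hsum : Finsupp.sum G (fun s x => x * (inHom P P').ringHom (rel P s)) = 0 := by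
    have h : jmap (compP P P') (eR P P' G) = 0 := hG
    rw [Finsupp.lmapDomain_apply, jmap, Finsupp.linearCombination_mapDomain, Finsupp.linearCombination_apply] at h
    rw [← h]
    exact Finset.sum_congr rfl fun r _ => by simp only [Function.comp_apply, smul_eq_mul, rel_inr]
  have hc : ∀ m, jmap P (c m) = 0 := fun m => by
    have h := congrArg (fun y => MvPolynomial.coeff m (Φ y)) hsum
    simp only [map_zero, MvPolynomial.coeff_zero, Finsupp.sum, map_sum, MvPolynomial.coeff_sum, map_mul, hΦ] at h
    rw [jmap, Finsupp.linearCombination_apply, Finsupp.sum_mapRange_index (by simp)]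
    simp only [Finsupp.sum, smul_eq_mul]
    rw [← h]
    refine Finset.sum_congr rfl fun s _ => ?_
    rw [mul_comm (Φ (G s)), MvPolynomial.coeff_C_mul, mul_comm]
  have key : G = ∑ m ∈ S, Φ.symm (MvPolynomial.monomial m 1) •
      Finsupp.mapRange (inHom P P').ringHom (map_zero _) (c m) := by
    ext s
    rw [Finsupp.finsetSum_apply]
    simp only [Finsupp.smul_apply, Finsupp.mapRange_apply, smul_eq_mul, c]
    apply Φ.injective
    simp only [map_sum, map_mul, RingEquiv.apply_symm_apply, hΦ, mul_comm (MvPolynomial.monomial _ _),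
      MvPolynomial.C_mul_monomial, mul_one]
    conv_lhs => rw [MvPolynomial.as_sum (Φ (G s))]
    refine Finset.sum_subset (fun m hm => ?_) fun m _ hm => ?_
    · refine Finset.mem_biUnion.2 ⟨s, Finsupp.mem_support_iff.2 fun h => ?_, hm⟩
      rw [h, map_zero] at hm
      simp at hm
    · rw [MvPolynomial.notMem_support_iff.1 hm, map_zero]
  have : (⟨eR P P' G, hG⟩ : relKer (compP P P')) =
      ∑ m ∈ S, Φ.symm (MvPolynomial.monomial m 1) • (inHom P P').relKerMap ⟨c m, hc m⟩ := by
    refine Subtype.ext ?_
    rw [AddSubmonoidClass.coe_finsetSum]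
    change eR P P' G = _
    conv_lhs => rw [key, map_sum]
    exact Finset.sum_congr rfl fun m _ => by
      rw [map_smul, Submodule.coe_smul, PresHom.relKerMap_coe, relModMap_in]
  rw [this]
  exact Submodule.sum_mem _ fun m _ => Submodule.smul_mem _ _ (Submodule.subset_span ⟨_, rfl⟩)

/-- The kernel of `L₂(Q) → L₂(P')` is generated by `L₂(P)`. -/
lemma exists_inSpan (q : relKer (compP P P')) (hq : (outHom P P').relModMap q ∈ trivRel P') :
    ∃ q₀ ∈ inSpan P P', (q : relMod (compP P P')) - (q₀ : relMod (compP P P')) ∈ trivRel (compP P P') := by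
  obtain ⟨t, ht, htq⟩ := exists_trivRel_lift P P' hq
  obtain ⟨a, b, hab⟩ := exists_eL_add_eR P P' ((q : relMod (compP P P')) - t)
  have ha : ∀ s, (outHom P P').ringHom (a s) = 0 := fun s => by
    have h : (outHom P P').relModMap ((q : relMod (compP P P')) - t) = 0 := by rw [map_sub, htq, sub_self]
    rw [hab, map_add, out_eR, add_zero, out_eL] at h
    exact DFunLike.congr_fun h s
  have h1 : ∀ a : σ' →₀ (compP P P').toExtension.Ring, (∀ s, (outHom P P').ringHom (a s) = 0) →
      ∃ g, eL P P' a - eR P P' g ∈ trivRel (compP P P') := by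
    classical
    intro a ha
    have h2 : ∀ s, ∃ g, eL P P' (Finsupp.single s (a s)) - eR P P' g ∈ trivRel (compP P P') := fun s => by
      obtain ⟨g, hg⟩ := exists_eR_of_out_eq_zero P P' (ha s)
      refine ⟨rel (compP P P') (Sum.inl s) • g, Submodule.subset_span
        ⟨eR P P' g, Finsupp.single (Sum.inl s) 1, ?_⟩⟩
      rw [hg, map_smul, Finsupp.lmapDomain_apply, Finsupp.mapDomain_single, Finsupp.smul_single, smul_eq_mul, mul_one,
        jmap_single, one_mul]
    choose g hg using h2
    refine ⟨∑ s ∈ a.support, g s, ?_⟩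
    conv => enter [2, 1, 2]; rw [← Finsupp.sum_single a, Finsupp.sum]
    rw [map_sum, map_sum, ← Finset.sum_sub_distrib]
    exact Submodule.sum_mem _ fun s _ => hg s
  obtain ⟨g, hg⟩ := h1 a ha
  have hmem : eR P P' (g + b) ∈ relKer (compP P P') := by
    have e1 : (eR P P' (g + b) : relMod (compP P P')) = (q : relMod (compP P P')) - (t + (eL P P' a - eR P P' g)) := by
      rw [map_add, ← sub_sub, hab]
      abel
    rw [e1]
    exact Submodule.sub_mem _ q.2 (trivRel_le_relKer _ (Submodule.add_mem _ ht hg))
  refine ⟨⟨_, hmem⟩, mem_inSpan P P' _ hmem, ?_⟩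
  have e2 : (q : relMod (compP P P')) - eR P P' (g + b) = t + (eL P P' a - eR P P' g) := by
    rw [map_add, ← sub_eq_zero]
    rw [← sub_eq_iff_eq_add'.2 (sub_eq_iff_eq_add.1 hab)]
    abel
  rw [e2]
  exact Submodule.add_mem _ ht hg

end Groth.Agent.CotTLib
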