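import Groth.Agent.CotTLib.Vanish
import Groth.Agent.Exal.Basic

/-!
# Extensions of algebras and `T¹`
-/

universe u

open TensorProduct

noncomputable section

namespace Groth.Agent.CotTLib

open _root_.CotT

variable {A B ι σ : Type u} [CommRing A] [CommRing B] [Algebra A B]
variable (P : Algebra.Presentation A B ι σ) {M : Type u} [AddCommGroup M] [Module B M]

/-- A lift of the presentation to the middle ring of an extension. -/
structure Lift (X : Exal.Ext A B M) where
  hom : P.toExtension.Ring →+* X.E
  hom_C : ∀ a, hom (Cv P a) = algebraMap A X.E a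
  proj_hom : ∀ r, X.proj (hom r) = algebraMap P.toExtension.Ring B r

variable {P} {X Y : Exal.Ext A B M}

/-- The lift sending the variables to given elements. -/
def Lift.ofVals (x : ι → X.E) (hx : ∀ i, X.proj (x i) = P.val i) : Lift P X where
  hom := MvPolynomial.eval₂Hom (algebraMap A X.E) x
  hom_C a := MvPolynomial.eval₂_C _ _ _
  proj_hom r := by
    refine RingHom.congr_fun (f := X.proj.toRingHom.comp (MvPolynomial.eval₂Hom (algebraMap A X.E) x))
      (g := algebraMap P.toExtension.Ring B) (MvPolynomial.ringHom_ext (fun a => ?_) fun i => ?_) r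
    · change X.proj (MvPolynomial.eval₂ (algebraMap A X.E) x (MvPolynomial.C a)) = algebraMap P.toExtension.Ring B (Cv P a)
      rw [MvPolynomial.eval₂_C, AlgHom.commutes, algebraMap_toExtension]
      exact (MvPolynomial.aeval_C _ _).symm
    · change X.proj (MvPolynomial.eval₂ (algebraMap A X.E) x (MvPolynomial.X i)) = algebraMap P.toExtension.Ring B (Xv P i)
      rw [MvPolynomial.eval₂_X, hx, algebraMap_Xv]

lemma exists_lift (X : Exal.Ext A B M) : Nonempty (Lift P X) :=
  ⟨Lift.ofVals (fun i => Function.surjInv X.isExtension.proj_surjective (P.val i))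
    fun _ => Function.surjInv_eq _ _⟩

/-- The element of `M` under the image of an element of the ideal. -/
def Lift.val (l : Lift P X) (x : P.toExtension.ker) : M :=
  X.kerLift (l.hom x) (by rw [l.proj_hom]; exact x.2)

lemma Lift.incl_val (l : Lift P X) (x : P.toExtension.ker) : X.incl (l.val x) = l.hom x :=
  X.incl_kerLift _ _

lemma Lift.hom_sq (l : Lift P X) {x : P.toExtension.Ring} (hx : x ∈ P.toExtension.ker ^ 2) : l.hom x = 0 := by
  rw [pow_two] at hx
  induction hx using Submodule.mul_induction_on' with
  | mem_mul_mem a ha b hb => rw [map_mul, ← l.incl_val ⟨a, ha⟩, ← l.incl_val ⟨b, hb⟩, Exal.incl_mul_incl]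
  | add y _ z _ hy hz => rw [map_add, hy, hz, add_zero]

/-- The map `I/I² → M` of a lift. -/
def Lift.phi (l : Lift P X) : P.toExtension.Cotangent →ₗ[B] M where
  toFun y := l.val (Function.surjInv Algebra.Extension.Cotangent.mk_surjective y)
  map_add' y z := X.isExtension.incl_injective (by
    rw [map_add, l.incl_val, l.incl_val, l.incl_val, ← map_add, ← sub_eq_zero, ← map_sub]
    refine l.hom_sq ?_
    rw [← Submodule.coe_add, ← AddSubgroupClass.coe_sub, ← Algebra.Extension.Cotangent.mk_eq_zero_iff,
      map_sub, map_add, Function.surjInv_eq Algebra.Extension.Cotangent.mk_surjective,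
      Function.surjInv_eq Algebra.Extension.Cotangent.mk_surjective,
      Function.surjInv_eq Algebra.Extension.Cotangent.mk_surjective, sub_self])
  map_smul' b y := X.isExtension.incl_injective (by
    obtain ⟨r, rfl⟩ := P.toExtension.algebraMap_surjective b
    rw [RingHom.id_apply, ← l.proj_hom r, ← X.isExtension.mul_incl, l.incl_val, l.incl_val, ← map_mul, ← sub_eq_zero,
      ← map_sub, l.proj_hom r]
    refine l.hom_sq ?_
    rw [← smul_eq_mul, ← Submodule.coe_smul, ← AddSubgroupClass.coe_sub,
      ← Algebra.Extension.Cotangent.mk_eq_zero_iff, map_sub, map_smul,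
      Function.surjInv_eq Algebra.Extension.Cotangent.mk_surjective,
      Function.surjInv_eq Algebra.Extension.Cotangent.mk_surjective, algebraMap_smul, sub_self])

lemma Lift.incl_phi (l : Lift P X) (x : P.toExtension.ker) :
    X.incl (l.phi (Algebra.Extension.Cotangent.mk x)) = l.hom x := by
  change X.incl (l.val _) = _
  rw [l.incl_val, ← sub_eq_zero, ← map_sub]
  refine l.hom_sq ?_
  rw [← AddSubgroupClass.coe_sub, ← Algebra.Extension.Cotangent.mk_eq_zero_iff, map_sub,
    Function.surjInv_eq Algebra.Extension.Cotangent.mk_surjective, sub_self]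

/-- A linear map on `L₀` is recovered as the difference of two lifts. -/
lemma Lift.hom_sub (l m : Lift P X) (ψ : L0 P →ₗ[B] M)
    (h : ∀ i, X.incl (ψ (P.cotangentSpaceBasis i)) = m.hom (Xv P i) - l.hom (Xv P i)) (r : P.toExtension.Ring) :
    X.incl (ψ ((1 : B) ⊗ₜ KaehlerDifferential.D A P.toExtension.Ring r)) = m.hom r - l.hom r := by
  induction r using ringInduction with
  | C a =>
    rw [show Cv P a = algebraMap A P.toExtension.Ring a from rfl, Derivation.map_algebraMap, TensorProduct.tmul_zero,
      map_zero, map_zero, show algebraMap A P.toExtension.Ring a = Cv P a from rfl, m.hom_C, l.hom_C, sub_self]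
  | add p q hp hq =>
    simp only [map_add, TensorProduct.tmul_add]
    rw [hp, hq]
    abel
  | mul_X p i hp =>
    have h1 : ψ ((1 : B) ⊗ₜ KaehlerDifferential.D A P.toExtension.Ring (Xv P i)) = ψ (P.cotangentSpaceBasis i) := by
      rw [Algebra.Generators.cotangentSpaceBasis_apply]; rfl
    rw [Derivation.leibniz, TensorProduct.tmul_add, TensorProduct.tmul_smul, TensorProduct.tmul_smul, map_add,
      ← algebraMap_smul (R := P.toExtension.Ring) B p, ← algebraMap_smul (R := P.toExtension.Ring) B (Xv P i),
      map_smul, map_smul, map_add, h1]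
    nth_rewrite 1 [← m.proj_hom p]
    rw [← l.proj_hom (Xv P i), ← X.isExtension.mul_incl, ← X.isExtension.mul_incl, h, hp, map_mul, map_mul]
    ring

lemma phi_sub_eq (l m : Lift P X) : ∃ ψ : L0 P →ₗ[B] M, ψ ∘ₗ P.toExtension.cotangentComplex = m.phi - l.phi := by
  let d : ι → M := fun i => Exal.diff X (m.hom (Xv P i)) (l.hom (Xv P i)) (by rw [m.proj_hom, l.proj_hom])
  refine ⟨P.cotangentSpaceBasis.constr ℕ d, LinearMap.ext fun y => X.isExtension.incl_injective ?_⟩
  obtain ⟨x, rfl⟩ := Algebra.Extension.Cotangent.mk_surjective y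
  rw [LinearMap.comp_apply, Algebra.Extension.cotangentComplex_mk, Lift.hom_sub l m _ (fun i => by
    rw [Module.Basis.constr_basis]; exact Exal.incl_diff _ _ _ _), LinearMap.sub_apply, map_sub, m.incl_phi,
    l.incl_phi]

variable (P)

/-- The class in `T¹` of an extension. -/
def classOf (X : Exal.Ext A B M) : T1 P M := homToT1 P M (exists_lift (P := P) X).some.phi

lemma classOf_eq (l : Lift P X) : classOf P X = homToT1 P M l.phi := by
  rw [classOf, ← sub_eq_zero, ← map_sub, homToT1_eq_zero_iff]
  exact phi_sub_eq _ _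

variable {P}

/-- Push a lift along an equivalence. -/
def Lift.map (l : Lift P X) (e : X.Equiv Y) : Lift P Y where
  hom := e.toAlgEquiv.toRingEquiv.toRingHom.comp l.hom
  hom_C a := by
    change e.toAlgEquiv (l.hom (Cv P a)) = _
    rw [l.hom_C, AlgEquiv.commutes]
  proj_hom r := (e.proj_apply _).trans (l.proj_hom r)

lemma classOf_congr (e : X.Equiv Y) : classOf P X = classOf P Y := by
  let l := (exists_lift (P := P) X).some
  rw [classOf_eq P l, classOf_eq P (l.map e)]
  congr 1
  refine LinearMap.ext fun y => Y.isExtension.incl_injective ?_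
  obtain ⟨x, rfl⟩ := Algebra.Extension.Cotangent.mk_surjective y
  rw [Lift.incl_phi, ← e.apply_incl, l.incl_phi]
  rfl

lemma equiv_of_phi_eq (l : Lift P X) (m : Lift P Y) (h : l.phi = m.phi) : Nonempty (X.Equiv Y) := by
  have hex : ∀ e : X.E, ∃ p : P.toExtension.Ring × M, l.hom p.1 + X.incl p.2 = e := fun e => by
    obtain ⟨r, hr⟩ := P.toExtension.algebraMap_surjective (X.proj e)
    obtain ⟨z, hz⟩ := (X.isExtension.exact (e - l.hom r)).1 (by rw [map_sub, l.proj_hom, hr, sub_self])
    exact ⟨(r, z), by rw [hz, add_sub_cancel]⟩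
  choose p hp using hex
  have key : ∀ e r z, l.hom r + X.incl z = e → m.hom (p e).1 + Y.incl (p e).2 = m.hom r + Y.incl z := by
    intro e r z he
    have hker : (p e).1 - r ∈ P.toExtension.ker := by
      have h1 := congrArg X.proj ((hp e).trans he.symm)
      simp only [map_add, l.proj_hom, Exal.proj_incl, add_zero] at h1
      change algebraMap P.toExtension.Ring B ((p e).1 - r) = 0
      rw [map_sub, h1, sub_self]
    have h3 : X.incl (z - (p e).2) = l.hom ((p e).1 - r) := by
      rw [map_sub, map_sub, sub_eq_sub_iff_add_eq_add, add_comm, he, hp]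
    rw [← sub_eq_zero, add_sub_add_comm, ← map_sub m.hom, ← m.incl_phi ⟨_, hker⟩, ← h,
      show l.phi (Algebra.Extension.Cotangent.mk ⟨_, hker⟩) = z - (p e).2 from
        X.isExtension.incl_injective (by rw [l.incl_phi, h3]), ← map_sub, ← map_add]
    simp
  let f : X.E →ₐ[A] Y.E :=
    { toFun := fun e => m.hom (p e).1 + Y.incl (p e).2
      map_one' := (key 1 1 0 (by simp)).trans (by simp)
      map_mul' := fun a b => by
        refine (key (a * b) ((p a).1 * (p b).1) (X.proj (l.hom (p a).1) • (p b).2 + X.proj (l.hom (p b).1) • (p a).2) ?_).trans ?_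
        · conv_rhs => rw [← hp a, ← hp b]
          simp only [map_mul, map_add, ← X.isExtension.mul_incl, add_mul, mul_add, Exal.incl_mul_incl]
          ring
        · simp only [map_mul, map_add, l.proj_hom, add_mul, mul_add, Exal.incl_mul_incl]
          rw [← m.proj_hom, ← m.proj_hom, ← Y.isExtension.mul_incl, ← Y.isExtension.mul_incl]
          ring
      map_zero' := (key 0 0 0 (by simp)).trans (by simp)
      map_add' := fun a b => by
        refine (key (a + b) ((p a).1 + (p b).1) ((p a).2 + (p b).2) ?_).trans ?_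
        · conv_rhs => rw [← hp a, ← hp b]
          simp only [map_add]
          abel
        · simp only [map_add]
          abel
      commutes' := fun a => (key _ (Cv P a) 0 (by simp [l.hom_C])).trans (by simp [m.hom_C]) }
  refine ⟨Exal.mkEquiv f (fun e => ?_) fun z => (key _ 0 z (by simp)).trans (by simp)⟩
  change Y.proj (m.hom (p e).1 + Y.incl (p e).2) = X.proj e
  conv_rhs => rw [← hp e]
  simp [m.proj_hom, l.proj_hom]

lemma equiv_of_classOf_eq (h : classOf P X = classOf P Y) : Nonempty (X.Equiv Y) := by
  let l := (exists_lift (P := P) X).some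
  let m := (exists_lift (P := P) Y).some
  rw [classOf_eq P l, classOf_eq P m, ← sub_eq_zero, ← map_sub, homToT1_eq_zero_iff] at h
  obtain ⟨ψ, hψ⟩ := h
  let m' : Lift P Y := Lift.ofVals (fun i => m.hom (Xv P i) + Y.incl (ψ (P.cotangentSpaceBasis i))) fun i => by
    rw [map_add, m.proj_hom, Exal.proj_incl, add_zero, algebraMap_Xv]
  refine equiv_of_phi_eq l m' (LinearMap.ext fun y => Y.isExtension.incl_injective ?_)
  obtain ⟨x, rfl⟩ := Algebra.Extension.Cotangent.mk_surjective y
  have h1 : Y.incl (l.phi (Algebra.Extension.Cotangent.mk x) - m.phi (Algebra.Extension.Cotangent.mk x)) =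
      m'.hom x - m.hom x := by
    rw [← LinearMap.sub_apply, ← hψ, LinearMap.comp_apply, Algebra.Extension.cotangentComplex_mk]
    refine Lift.hom_sub m m' ψ (fun i => ?_) _
    change _ = MvPolynomial.eval₂ _ _ (MvPolynomial.X i) - _
    rw [MvPolynomial.eval₂_X]
    abel
  rw [map_sub, m.incl_phi] at h1
  rw [Lift.incl_phi]
  exact sub_left_injective h1

attribute [local instance] _root_.Exal.opModule _root_.Exal.isCentralScalar_opModule

/-- The extension attached to a map `I/I² → M`. -/
theorem exists_ext (φ : P.toExtension.Cotangent →ₗ[B] M) :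
    ∃ (X : Exal.Ext A B M) (l : Lift P X), l.phi = φ := by
  let R := P.toExtension.Ring
  let π : R →+* B := algebraMap R B
  letI : Module R M := Module.compHom M π
  have hsm : ∀ (r : R) (z : M), r • z = π r • z := fun _ _ => rfl
  let K : Ideal (TrivSqZeroExt R M) :=
    { carrier := {p | ∃ x : P.toExtension.ker, p.fst = (x : R) ∧ p.snd = -φ (Algebra.Extension.Cotangent.mk x)}
      zero_mem' := ⟨0, rfl, by simp⟩
      add_mem' := by
        rintro p q ⟨x, h1, h2⟩ ⟨y, h3, h4⟩
        exact ⟨x + y, by simp [h1, h3], by simp [h2, h4]; abel⟩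
      smul_mem' := by
        rintro q p ⟨x, h1, h2⟩
        refine ⟨q.fst • x, by simp [h1], ?_⟩
        rw [smul_eq_mul, TrivSqZeroExt.snd_mul, h1, h2]
        change q.fst • (-φ (Algebra.Extension.Cotangent.mk x)) + (x : R) • q.snd = _
        rw [hsm (x : R), show π (x : R) = 0 from x.2, zero_smul, add_zero, smul_neg, hsm, ← map_smul φ,
          show π q.fst • Algebra.Extension.Cotangent.mk x = q.fst • Algebra.Extension.Cotangent.mk x from
            algebraMap_smul (R := P.toExtension.Ring) B q.fst _,
          ← map_smul (Algebra.Extension.Cotangent.mk (P := P.toExtension))] }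
  let E := TrivSqZeroExt R M ⧸ K
  letI algE : Algebra A E := ((Ideal.Quotient.mk K).comp ((TrivSqZeroExt.inlHom R M).comp (Cv P))).toAlgebra
  let p₀ : TrivSqZeroExt R M →+* B := π.comp (TrivSqZeroExt.fstHom R R M).toRingHom
  have hp₀ : ∀ a ∈ K, p₀ a = 0 := by
    rintro a ⟨x, h1, -⟩
    change π a.fst = 0
    rw [h1]; exact x.2
  let p : E →ₐ[A] B :=
    { Ideal.Quotient.lift K p₀ hp₀ with
      commutes' := fun a => by
        change π (Cv P a) = algebraMap A B a
        change algebraMap P.toExtension.Ring B (Cv P a) = _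
        rw [algebraMap_toExtension]
        exact MvPolynomial.aeval_C _ _ }
  let i : M →+ E := (Ideal.Quotient.mk K).toAddMonoidHom.comp (TrivSqZeroExt.inrHom R M).toAddMonoidHom
  have hext : _root_.Exal.IsExtension p i :=
    { proj_surjective := fun b => by
        obtain ⟨r, rfl⟩ := P.toExtension.algebraMap_surjective b
        exact ⟨Ideal.Quotient.mk K (TrivSqZeroExt.inl r), rfl⟩
      incl_injective := by
        refine (injective_iff_map_eq_zero i).2 fun z hz => ?_
        obtain ⟨x, h1, h2⟩ := Ideal.Quotient.eq_zero_iff_mem.1 hz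
        change (TrivSqZeroExt.inr z : TrivSqZeroExt R M).fst = _ at h1
        change (TrivSqZeroExt.inr z : TrivSqZeroExt R M).snd = _ at h2
        rw [TrivSqZeroExt.fst_inr] at h1
        rw [TrivSqZeroExt.snd_inr, show x = 0 from Subtype.ext h1.symm, map_zero, map_zero, neg_zero] at h2
        exact h2
      exact := fun e => by
        constructor
        · intro he
          obtain ⟨q, rfl⟩ := Ideal.Quotient.mk_surjective e
          let x : P.toExtension.ker := ⟨q.fst, he⟩
          refine ⟨q.snd + φ (Algebra.Extension.Cotangent.mk x), (Ideal.Quotient.eq.2 ?_).symm⟩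
          refine ⟨x, ?_, ?_⟩
          · change q.fst - (TrivSqZeroExt.inr _ : TrivSqZeroExt R M).fst = _
            rw [TrivSqZeroExt.fst_inr, sub_zero]
          · change q.snd - (TrivSqZeroExt.inr _ : TrivSqZeroExt R M).snd = _
            rw [TrivSqZeroExt.snd_inr]
            abel
        · rintro ⟨z, rfl⟩
          change π (TrivSqZeroExt.inr z : TrivSqZeroExt R M).fst = 0
          rw [TrivSqZeroExt.fst_inr, map_zero]
      mul_incl := fun e z => by
        obtain ⟨q, rfl⟩ := Ideal.Quotient.mk_surjective e
        change Ideal.Quotient.mk K q * Ideal.Quotient.mk K (TrivSqZeroExt.inr z) =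
          Ideal.Quotient.mk K (TrivSqZeroExt.inr (π q.fst • z))
        rw [← map_mul]
        congr 1
        refine TrivSqZeroExt.ext (by simp) ?_
        rw [TrivSqZeroExt.snd_mul, TrivSqZeroExt.fst_inr, TrivSqZeroExt.snd_inr, TrivSqZeroExt.snd_inr,
          MulOpposite.op_zero, zero_smul, add_zero]
        rfl }
  let X : Exal.Ext A B M := { E := E, proj := p, incl := i, isExtension := hext }
  let l : Lift P X := ⟨(Ideal.Quotient.mk K).comp (TrivSqZeroExt.inlHom R M), fun _ => rfl, fun _ => rfl⟩
  refine ⟨X, l, LinearMap.ext fun y => X.isExtension.incl_injective ?_⟩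
  obtain ⟨x, rfl⟩ := Algebra.Extension.Cotangent.mk_surjective y
  rw [l.incl_phi]
  refine Ideal.Quotient.eq.2 ⟨x, ?_, ?_⟩
  · change (TrivSqZeroExt.inl (x : R) : TrivSqZeroExt R M).fst - (TrivSqZeroExt.inr _ : TrivSqZeroExt R M).fst = _
    rw [TrivSqZeroExt.fst_inl, TrivSqZeroExt.fst_inr, sub_zero]
  · change (TrivSqZeroExt.inl (x : R) : TrivSqZeroExt R M).snd - (TrivSqZeroExt.inr _ : TrivSqZeroExt R M).snd = _
    rw [TrivSqZeroExt.snd_inl, TrivSqZeroExt.snd_inr, zero_sub]

variable (P M)

/-- Extensions of `B` by `M` are classified by `T¹`. -/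
def exalcomEquiv : Exal.Exalcom A B M ≃ T1 P M :=
  Equiv.ofBijective
    (Quotient.lift (s := Exal.Ext.setoid A B M) (classOf P) fun _ _ ⟨e⟩ => classOf_congr e)
    ⟨fun x y => Quotient.inductionOn₂ (s₁ := Exal.Ext.setoid A B M) (s₂ := Exal.Ext.setoid A B M) x y
      fun _ _ h => Quotient.sound (equiv_of_classOf_eq h),
    fun t => by
      obtain ⟨φ, rfl⟩ := homToT1_surjective P M t
      obtain ⟨X, l, hl⟩ := exists_ext φ
      exact ⟨X.cl, (classOf_eq P l).trans (by rw [hl])⟩⟩

lemma exalcomEquiv_cl (X : Exal.Ext A B M) : exalcomEquiv P M X.cl = classOf P X := rfl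

lemma exalcomEquiv_zero : exalcomEquiv P M 0 = 0 := by
  let X := Exal.Ext.trivial A B M
  let s : B →ₐ[A] X.E :=
    { TrivSqZeroExt.inlHom B M with
      commutes' := fun _ => rfl }
  let l : Lift P X := Lift.ofVals (fun i => s (P.val i)) fun _ => rfl
  refine (classOf_eq P l).trans ?_
  rw [show l.phi = 0 from ?_, map_zero]
  refine LinearMap.ext fun y => X.isExtension.incl_injective ?_
  obtain ⟨x, rfl⟩ := Algebra.Extension.Cotangent.mk_surjective y
  rw [l.incl_phi, LinearMap.zero_apply, map_zero]
  have : l.hom = s.toRingHom.comp (algebraMap P.toExtension.Ring B) := by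
    refine MvPolynomial.ringHom_ext (fun a => ?_) fun i => ?_
    · change l.hom (Cv P a) = s (algebraMap P.toExtension.Ring B (Cv P a))
      rw [l.hom_C, algebraMap_toExtension]
      exact ((congrArg s (MvPolynomial.aeval_C _ _)).trans (s.commutes a)).symm
    · change MvPolynomial.eval₂ _ _ (MvPolynomial.X i) = s (algebraMap P.toExtension.Ring B (Xv P i))
      rw [MvPolynomial.eval₂_X, algebraMap_Xv]
  rw [this, RingHom.comp_apply, show algebraMap P.toExtension.Ring B x = 0 from x.2, map_zero]

end Groth.Agent.CotTLib
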