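import Groth.Agent.CotTLib.Homotopy

/-!
# Existence, composition and invertibility of maps of presentations
-/

universe u v w t u' v' w' t' u'' v'' w'' t'' m

open TensorProduct

noncomputable section

namespace Groth.Agent.CotTLib

open _root_.CotT

section Exists

variable {A : Type u} {B : Type v} {ι : Type w} {σ : Type t}
variable {A' : Type u'} {B' : Type v'} {ι' : Type w'} {σ' : Type t'}
variable [CommRing A] [CommRing B] [Algebra A B] [CommRing A'] [CommRing B'] [Algebra A' B']
variable [Algebra A A'] [Algebra B B'] [Algebra A B'] [IsScalarTower A A' B'] [IsScalarTower A B B']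
variable (P : Algebra.Presentation A B ι σ) (P' : Algebra.Presentation A' B' ι' σ')

theorem exists_presHom : Nonempty (PresHom P P') := by
  let f := Algebra.Generators.defaultHom P.toGenerators P'.toGenerators
  have h : ∀ s, ∃ g : relMod P', jmap P' g = f.toExtensionHom.toRingHom (rel P s) := fun s =>
    exists_jmap_eq P' (by
      rw [f.toExtensionHom.algebraMap_toRingHom, algebraMap_rel, map_zero])
  exact ⟨⟨f, fun s => (h s).choose, fun s => (h s).choose_spec⟩⟩

/-- A chosen morphism of presentations. -/
def someHom : PresHom P P' := (exists_presHom P P').some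

end Exists

section Comp

variable {A : Type u} {B : Type v} {ι : Type w} {σ : Type t}
variable {A' : Type u'} {B' : Type v'} {ι' : Type w'} {σ' : Type t'}
variable {A'' : Type u''} {B'' : Type v''} {ι'' : Type w''} {σ'' : Type t''}
variable [CommRing A] [CommRing B] [Algebra A B] [CommRing A'] [CommRing B'] [Algebra A' B']
variable [CommRing A''] [CommRing B''] [Algebra A'' B'']
variable [Algebra A A'] [Algebra B B'] [Algebra A B'] [IsScalarTower A A' B'] [IsScalarTower A B B']
variable [Algebra A' A''] [Algebra B' B''] [Algebra A' B''] [IsScalarTower A' A'' B''] [IsScalarTower A' B' B'']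
variable [Algebra A A''] [Algebra B B''] [Algebra A B''] [IsScalarTower A A'' B''] [IsScalarTower A B B'']
variable [IsScalarTower A A' A''] [IsScalarTower B B' B''] [IsScalarTower A B' B'']
variable {P : Algebra.Presentation A B ι σ} {P' : Algebra.Presentation A' B' ι' σ'}
  {P'' : Algebra.Presentation A'' B'' ι'' σ''}
variable (k : PresHom P' P'') (h : PresHom P P')

lemma toRingHom_comp (x : P.toExtension.Ring) :
    (k.hom.comp h.hom).toExtensionHom.toRingHom x = k.ringHom (h.ringHom x) := by
  rw [Algebra.Generators.Hom.toExtensionHom_comp]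
  rfl

/-- The composite of two morphisms of presentations. -/
def compHom : PresHom P P'' where
  hom := k.hom.comp h.hom
  relVal s := k.relModMap (h.relVal s)
  jmap_relVal s := by rw [PresHom.jmap_relModMap, h.jmap_relVal, toRingHom_comp]

lemma ringHom_compHom (x : P.toExtension.Ring) :
    (compHom k h).ringHom x = k.ringHom (h.ringHom x) := toRingHom_comp k h x

lemma relModMap_compHom (f : relMod P) :
    (compHom k h).relModMap f = k.relModMap (h.relModMap f) := by
  induction f using Finsupp.induction_linear with
  | zero => simp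
  | add f g hf hg => simp only [map_add, hf, hg]
  | single s r =>
    rw [PresHom.relModMap_single, PresHom.relModMap_single, LinearMap.map_smulₛₗ, ringHom_compHom]
    rfl

variable (M : Type m) [AddCommGroup M] [Module B'' M] [Module B' M] [Module B M]
variable [IsScalarTower B' B'' M] [IsScalarTower B B'' M] [IsScalarTower B B' M]

lemma L0map_compHom (i : ι) :
    (compHom k h).L0map (P.cotangentSpaceBasis i) = k.L0map (h.L0map (P.cotangentSpaceBasis i)) := by
  rw [L0map_basis, L0map_basis, PresHom.L0map_apply]
  erw [Algebra.Extension.CotangentSpace.map_tmul]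
  rw [map_one, ringHom_compHom]
  rfl

theorem T0pull_compHom (ψ : T0 P'' M) :
    (compHom k h).T0pull M ψ = h.T0pull M (k.T0pull M ψ) := by
  refine T0_ext P M fun i => ?_
  exact congrArg (ψ : L0 P'' →ₗ[B''] M) (L0map_compHom k h i)

lemma L1map_compHom (s : σ) :
    (compHom k h).L1map (L1basis P s) = k.L1map (h.L1map (L1basis P s)) := by
  rw [L1map_basis, L1map_basis, PresHom.L1map_tmul, map_one]
  rfl

theorem T1pull_compHom (y : T1 P'' M) :
    (compHom k h).T1pull M y = h.T1pull M (k.T1pull M y) := by
  induction y using Submodule.Quotient.induction_on with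
  | H c =>
    change (Submodule.Quotient.mk ((compHom k h).cocycles1Pull M c) : T1 P M) =
      Submodule.Quotient.mk (h.cocycles1Pull M (k.cocycles1Pull M c))
    congr 1
    refine Subtype.ext ((L1basis P).ext fun s => ?_)
    exact congrArg (c : L1 P'' →ₗ[B''] M) (L1map_compHom k h s)

theorem T2pull_compHom (y : T2 P'' M) :
    (compHom k h).T2pull M y = h.T2pull M (k.T2pull M y) := by
  induction y using Submodule.Quotient.induction_on with
  | H ψ =>
    change (Submodule.Quotient.mk ((compHom k h).pull2 M ψ) : T2 P M) =
      Submodule.Quotient.mk (h.pull2 M (k.pull2 M ψ))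
    congr 1
    refine linearMap_ext_L2 P fun q => congrArg ψ ?_
    rw [cls_apply, PresHom.L2map_mk_tmul, PresHom.L2map_mk_tmul, PresHom.L2map_mk_tmul, map_one, map_one,
      map_one]
    congr 2
    exact Subtype.ext (relModMap_compHom k h q)

end Comp

section Ident

variable {A : Type u} {B : Type v} {ι : Type w} {σ : Type t}
variable [CommRing A] [CommRing B] [Algebra A B]
variable (P : Algebra.Presentation A B ι σ) (M : Type m) [AddCommGroup M] [Module B M]

lemma relModMap_id (f : relMod P) : (PresHom.id P).relModMap f = f := by
  induction f using Finsupp.induction_linear with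
  | zero => simp
  | add f g hf hg => simp only [map_add, hf, hg]
  | single s r =>
    have h1 : (PresHom.id P).ringHom r = r := by
      refine RingHom.congr_fun (f := (PresHom.id P).ringHom) (g := RingHom.id _)
        (MvPolynomial.ringHom_ext (fun a => ?_) fun i => ?_) r
      · exact (ringHom_Cv (PresHom.id P) a).trans (by rw [Algebra.algebraMap_self]; rfl)
      · exact MvPolynomial.aeval_X (R := A) (S₁ := MvPolynomial ι A) _ i
    rw [PresHom.relModMap_single, h1]
    change r • Finsupp.single s 1 = _
    rw [Finsupp.smul_single, smul_eq_mul, mul_one]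

theorem T0pull_id (ψ : T0 P M) : (PresHom.id P).T0pull M ψ = ψ := by
  refine T0_ext P M fun i => congrArg (ψ : L0 P →ₗ[B] M) ?_
  rw [L0map_basis, Algebra.Generators.cotangentSpaceBasis_apply]
  congr 2
  exact MvPolynomial.aeval_X (R := A) (S₁ := MvPolynomial ι A) _ i

theorem T1pull_id (y : T1 P M) : (PresHom.id P).T1pull M y = y := by
  induction y using Submodule.Quotient.induction_on with
  | H c =>
    change (Submodule.Quotient.mk ((PresHom.id P).cocycles1Pull M c) : T1 P M) = _
    congr 1
    refine Subtype.ext ((L1basis P).ext fun s => congrArg (c : L1 P →ₗ[B] M) ?_)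
    rw [L1map_basis, L1basis_apply]
    rfl

theorem T2pull_id (y : T2 P M) : (PresHom.id P).T2pull M y = y := by
  induction y using Submodule.Quotient.induction_on with
  | H ψ =>
    change (Submodule.Quotient.mk ((PresHom.id P).pull2 M ψ) : T2 P M) = _
    congr 1
    refine linearMap_ext_L2 P fun q => congrArg ψ ?_
    rw [cls_apply, PresHom.L2map_mk_tmul, Algebra.algebraMap_self, RingHom.id_apply]
    congr 2
    exact Subtype.ext (relModMap_id P q)

variable {ι' : Type w'} {σ' : Type t'} {P} {P' : Algebra.Presentation A B ι' σ'}

theorem T0pull_bijective (h : PresHom P P') : Function.Bijective (h.T0pull M) := by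
  let k := someHom P' P
  refine Function.bijective_iff_has_inverse.2 ⟨k.T0pull M, fun y => ?_, fun y => ?_⟩
  · rw [← T0pull_compHom h k, T0pull_eq _ (PresHom.id P') M, T0pull_id]
  · rw [← T0pull_compHom k h, T0pull_eq _ (PresHom.id P) M, T0pull_id]

theorem T1pull_bijective (h : PresHom P P') : Function.Bijective (h.T1pull M) := by
  let k := someHom P' P
  refine Function.bijective_iff_has_inverse.2 ⟨k.T1pull M, fun y => ?_, fun y => ?_⟩
  · rw [← T1pull_compHom h k, T1pull_eq _ (PresHom.id P') M, T1pull_id]
  · rw [← T1pull_compHom k h, T1pull_eq _ (PresHom.id P) M, T1pull_id]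

theorem T2pull_bijective (h : PresHom P P') : Function.Bijective (h.T2pull M) := by
  let k := someHom P' P
  refine Function.bijective_iff_has_inverse.2 ⟨k.T2pull M, fun y => ?_, fun y => ?_⟩
  · rw [← T2pull_compHom h k, T2pull_eq _ (PresHom.id P') M, T2pull_id]
  · rw [← T2pull_compHom k h, T2pull_eq _ (PresHom.id P) M, T2pull_id]

variable (P) (P')

/-- Comparison isomorphism of `T⁰`. -/
def T0equiv : T0 P M ≃ₗ[B] T0 P' M :=
  (LinearEquiv.ofBijective ((someHom P P').T0pull M) (T0pull_bijective M _)).symm

/-- Comparison isomorphism of `T¹`. -/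
def T1equiv : T1 P M ≃ₗ[B] T1 P' M :=
  (LinearEquiv.ofBijective ((someHom P P').T1pull M) (T1pull_bijective M _)).symm

/-- Comparison isomorphism of `T²`. -/
def T2equiv : T2 P M ≃ₗ[B] T2 P' M :=
  (LinearEquiv.ofBijective ((someHom P P').T2pull M) (T2pull_bijective M _)).symm

end Ident

end Groth.Agent.CotTLib
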