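import Groth.Agent.CotTLib.Basic

/-!
# Independence of the chosen morphism of presentations

Two morphisms of presentations over the same square induce the same maps on `T⁰`, `T¹`, `T²`.
The difference of the two lifts `R → R'` lifts to the free module modulo trivial relations
through the ring `R' ⊕ F'/F₀'`, in which `(0, a) * (0, b) = (0, j a • b)`.
-/

universe u v w t u' v' w' t' m

open TensorProduct

noncomputable section

namespace Groth.Agent.CotTLib

open _root_.CotT

section GMod

variable {A : Type u} {B : Type v} {ι : Type w} {σ : Type t}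
variable [CommRing A] [CommRing B] [Algebra A B]
variable (P : Algebra.Presentation A B ι σ)

/-- The free module on the relations modulo the trivial relations. -/
def GMod : Type (max t w u) := relMod P ⧸ trivRel P

instance : AddCommGroup (GMod P) := inferInstanceAs (AddCommGroup (relMod P ⧸ trivRel P))
instance : Module P.toExtension.Ring (GMod P) :=
  inferInstanceAs (Module P.toExtension.Ring (relMod P ⧸ trivRel P))

/-- The quotient map onto `GMod`. -/
def mkG : relMod P →ₗ[P.toExtension.Ring] GMod P := Submodule.mkQ _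

lemma mkG_surjective : Function.Surjective (mkG P) := Submodule.mkQ_surjective _

/-- `j` on the quotient. -/
def jG : GMod P →ₗ[P.toExtension.Ring] P.toExtension.Ring :=
  Submodule.liftQ (trivRel P) (jmap P) (trivRel_le_relKer P)

@[simp] lemma jG_mk (f : relMod P) : jG P (mkG P f) = jmap P f := rfl

lemma jG_smul_comm (x y : GMod P) : jG P x • y = jG P y • x := by
  obtain ⟨a, rfl⟩ := mkG_surjective P x
  obtain ⟨b, rfl⟩ := mkG_surjective P y
  rw [jG_mk, jG_mk, ← map_smul, ← map_smul, ← sub_eq_zero, ← map_sub]
  exact (Submodule.Quotient.mk_eq_zero _).2 (Submodule.subset_span ⟨a, b, rfl⟩)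

instance : NonUnitalCommRing (GMod P) where
  __ := (inferInstance : AddCommGroup (GMod P))
  mul x y := jG P x • y
  left_distrib x y z := smul_add (jG P x) y z
  right_distrib x y z := by
    change jG P (x + y) • z = jG P x • z + jG P y • z
    rw [map_add, add_smul]
  zero_mul x := by
    change jG P 0 • x = 0
    rw [map_zero, zero_smul]
  mul_zero x := smul_zero (jG P x)
  mul_assoc x y z := by
    change jG P (jG P x • y) • z = jG P x • (jG P y • z)
    rw [map_smul, smul_eq_mul, mul_smul]
  mul_comm x y := jG_smul_comm P x y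

lemma gmul_def (x y : GMod P) : x * y = jG P x • y := rfl

instance : IsScalarTower P.toExtension.Ring (GMod P) (GMod P) :=
  ⟨fun r x y => by
    change jG P (r • x) • y = r • (jG P x • y)
    rw [map_smul, smul_eq_mul, mul_smul]⟩

instance : SMulCommClass P.toExtension.Ring (GMod P) (GMod P) :=
  ⟨fun r x y => by
    change r • (jG P x • y) = jG P x • (r • y)
    rw [smul_comm]⟩

/-- The second projection `(r, x) ↦ r + j x`. -/
def sndHom : Unitization P.toExtension.Ring (GMod P) →+* P.toExtension.Ring where
  toFun z := z.fst + jG P z.snd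
  map_one' := by simp
  map_mul' z z' := by
    simp only [Unitization.fst_mul, Unitization.snd_mul, gmul_def, map_add, map_smul, smul_eq_mul]
    ring
  map_zero' := by simp
  map_add' z z' := by
    simp only [Unitization.fst_add, Unitization.snd_add, map_add]
    ring

/-- `x ↦ 1 ⊗ x` from the quotient to `L₁`. -/
def gToL1 : GMod P →ₗ[P.toExtension.Ring] L1 P :=
  Submodule.liftQ (trivRel P) (TensorProduct.mk P.toExtension.Ring B (relMod P) 1)
    (fun y hy => one_tmul_eq_zero_of_mem_trivRel P y hy)

@[simp] lemma gToL1_mk (f : relMod P) : gToL1 P (mkG P f) = (1 : B) ⊗ₜ f := rfl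

end GMod

variable {A : Type u} {B : Type v} {ι : Type w} {σ : Type t}
variable {A' : Type u'} {B' : Type v'} {ι' : Type w'} {σ' : Type t'}
variable [CommRing A] [CommRing B] [Algebra A B] [CommRing A'] [CommRing B'] [Algebra A' B']
variable [Algebra A A'] [Algebra B B'] [Algebra A B'] [IsScalarTower A A' B'] [IsScalarTower A B B']
variable {P : Algebra.Presentation A B ι σ} {P' : Algebra.Presentation A' B' ι' σ'}

/-- The variable `x_i` in the ring of the presentation. -/
abbrev Xv (P : Algebra.Presentation A B ι σ) (i : ι) : P.toExtension.Ring := MvPolynomial.X i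

/-- The constant `a` in the ring of the presentation. -/
abbrev Cv (P : Algebra.Presentation A B ι σ) : A →+* P.toExtension.Ring := MvPolynomial.C

lemma ringHom_Cv (h : PresHom P P') (a : A) : h.ringHom (Cv P a) = Cv P' (algebraMap A A' a) :=
  h.hom.toExtensionHom.toRingHom_algebraMap a

lemma algebraMap_Xv (i : ι) : algebraMap P.toExtension.Ring B (Xv P i) = P.val i := by
  rw [algebraMap_toExtension]; exact MvPolynomial.aeval_X _ _

/-- Induction on the polynomial ring of a presentation. -/
lemma ringInduction {motive : P.toExtension.Ring → Prop} (C : ∀ a, motive (Cv P a))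
    (add : ∀ p q, motive p → motive q → motive (p + q))
    (mul_X : ∀ p i, motive p → motive (p * Xv P i)) (x : P.toExtension.Ring) : motive x :=
  MvPolynomial.induction_on (motive := fun y : MvPolynomial ι A => motive y) x C add mul_X

variable (h h' : PresHom P P')

lemma exists_delta (i : ι) :
    ∃ f : relMod P', jmap P' f = h'.ringHom (Xv P i) - h.ringHom (Xv P i) :=
  exists_jmap_eq P' (by
    rw [map_sub, PresHom.algebraMap_ringHom, PresHom.algebraMap_ringHom, sub_self])

/-- A lift of the difference of the images of the variable `x_i`. -/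
def delta (i : ι) : relMod P' := (exists_delta h h' i).choose

lemma jmap_delta (i : ι) : jmap P' (delta h h' i) = h'.ringHom (Xv P i) - h.ringHom (Xv P i) :=
  (exists_delta h h' i).choose_spec

/-- The ring map `R → R' ⊕ F'/F₀'` combining the two lifts. -/
def pairHom : P.toExtension.Ring →+* Unitization P'.toExtension.Ring (GMod P') :=
  MvPolynomial.eval₂Hom ((Unitization.inlRingHom P'.toExtension.Ring (GMod P')).comp (h.ringHom.comp (Cv P)))
    fun i => Unitization.inl (h.ringHom (Xv P i)) + Unitization.inr (mkG P' (delta h h' i))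

lemma pairHom_Cv (a : A) : pairHom h h' (Cv P a) = Unitization.inl (h.ringHom (Cv P a)) :=
  MvPolynomial.eval₂_C _ _ _

lemma pairHom_Xv (i : ι) :
    pairHom h h' (Xv P i) =
      Unitization.inl (h.ringHom (Xv P i)) + Unitization.inr (mkG P' (delta h h' i)) :=
  MvPolynomial.eval₂_X _ _ _

lemma fst_pairHom (x : P.toExtension.Ring) : (pairHom h h' x).fst = h.ringHom x := by
  refine RingHom.congr_fun (f := (Unitization.fstHom P'.toExtension.Ring (GMod P')).toRingHom.comp (pairHom h h'))
    (g := h.ringHom) (MvPolynomial.ringHom_ext (fun a => ?_) fun i => ?_) x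
  · change (pairHom h h' (Cv P a)).fst = h.ringHom (Cv P a)
    rw [pairHom_Cv, Unitization.fst_inl]
  · change (pairHom h h' (Xv P i)).fst = h.ringHom (Xv P i)
    rw [pairHom_Xv, Unitization.fst_add, Unitization.fst_inl, Unitization.fst_inr, add_zero]

/-- The lift to `F'/F₀'` of the difference of the two maps `R → R'`. -/
def Delta (x : P.toExtension.Ring) : GMod P' := (pairHom h h' x).snd

lemma jG_Delta (x : P.toExtension.Ring) : jG P' (Delta h h' x) = h'.ringHom x - h.ringHom x := by
  rw [eq_sub_iff_add_eq', ← fst_pairHom h h']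
  refine RingHom.congr_fun (f := (sndHom P').comp (pairHom h h')) (g := h'.ringHom)
    (MvPolynomial.ringHom_ext (fun a => ?_) fun i => ?_) x
  · change (pairHom h h' (Cv P a)).fst + jG P' (pairHom h h' (Cv P a)).snd = h'.ringHom (Cv P a)
    rw [pairHom_Cv, Unitization.fst_inl, Unitization.snd_inl, map_zero, add_zero, ringHom_Cv, ringHom_Cv]
  · change (pairHom h h' (Xv P i)).fst + jG P' (pairHom h h' (Xv P i)).snd = h'.ringHom (Xv P i)
    rw [pairHom_Xv, Unitization.fst_add, Unitization.snd_add, Unitization.fst_inl, Unitization.fst_inr,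
      Unitization.snd_inl, Unitization.snd_inr, add_zero, zero_add, jG_mk, jmap_delta]
    ring

lemma Delta_Cv (a : A) : Delta h h' (Cv P a) = 0 := by
  rw [Delta, pairHom_Cv, Unitization.snd_inl]

lemma Delta_add (x y : P.toExtension.Ring) : Delta h h' (x + y) = Delta h h' x + Delta h h' y := by
  rw [Delta, map_add, Unitization.snd_add]; rfl

lemma Delta_mul (x y : P.toExtension.Ring) :
    Delta h h' (x * y) = h.ringHom x • Delta h h' y + h'.ringHom y • Delta h h' x := by
  have h1 : h'.ringHom y • Delta h h' x =
      h.ringHom y • Delta h h' x + Delta h h' x * Delta h h' y := by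
    rw [mul_comm (Delta h h' x) (Delta h h' y), gmul_def, jG_Delta, sub_smul, add_sub_cancel]
  rw [h1, ← fst_pairHom h h', ← fst_pairHom h h', ← add_assoc, Delta, map_mul, Unitization.snd_mul]
  rfl

lemma Delta_Xv (i : ι) : Delta h h' (Xv P i) = mkG P' (delta h h' i) := by
  rw [Delta, pairHom_Xv, Unitization.snd_add, Unitization.snd_inl, Unitization.snd_inr, zero_add]

lemma exists_err (s : σ) :
    ∃ q : relKer P', mkG P' (q : relMod P') =
      mkG P' (h'.relVal s) - mkG P' (h.relVal s) - Delta h h' (rel P s) := by
  obtain ⟨f, hf⟩ := mkG_surjective P' (mkG P' (h'.relVal s) - mkG P' (h.relVal s) - Delta h h' (rel P s))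
  refine ⟨⟨f, ?_⟩, hf⟩
  change jmap P' f = 0
  rw [← jG_mk, hf, map_sub, map_sub, jG_mk, jG_mk, jG_Delta, h.jmap_relVal, h'.jmap_relVal]
  exact sub_self _

/-- The part of the homotopy in degree `2`. -/
def err (s : σ) : relKer P' := (exists_err h h' s).choose

lemma mkG_err (s : σ) : mkG P' (err h h' s : relMod P') =
    mkG P' (h'.relVal s) - mkG P' (h.relVal s) - Delta h h' (rel P s) :=
  (exists_err h h' s).choose_spec

lemma algebraMap_smul_L1 (r : P'.toExtension.Ring) (x : L1 P') :
    r • x = algebraMap P'.toExtension.Ring B' r • x := (algebraMap_smul B' r x).symm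

lemma one_tmul_relVal_sub (s : σ) :
    (1 : B') ⊗ₜ[P'.toExtension.Ring] h'.relVal s - (1 : B') ⊗ₜ h.relVal s =
      d2 P' (cls P' (err h h' s)) + gToL1 P' (Delta h h' (rel P s)) := by
  rw [d2_cls, ← gToL1_mk P' (err h h' s : relMod P'), mkG_err, map_sub, map_sub, sub_add_cancel]
  rfl

lemma L0map_basis (i : ι) : h.L0map (P.cotangentSpaceBasis i) =
    (1 : B') ⊗ₜ KaehlerDifferential.D A' P'.toExtension.Ring (h.ringHom (Xv P i)) := by
  rw [PresHom.L0map_apply, Algebra.Generators.cotangentSpaceBasis_apply]
  erw [Algebra.Extension.CotangentSpace.map_tmul]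
  rw [map_one]
  rfl

lemma L1map_basis (s : σ) : h.L1map (L1basis P s) = (1 : B') ⊗ₜ h.relVal s := by
  rw [L1basis_apply, PresHom.L1map_tmul, map_one, PresHom.relModMap_single, map_one, one_smul]

variable (M : Type m) [AddCommGroup M] [Module B' M] [Module B M] [IsScalarTower B B' M]

/-- `Γ(Δ x)` is computed by a linear map on `L₀`. -/
lemma apply_gToL1_Delta (c : L1 P' →ₗ[B'] M) (η : L0 P →ₗ[B] M)
    (hη : ∀ i, η (P.cotangentSpaceBasis i) = c ((1 : B') ⊗ₜ delta h h' i)) (x : P.toExtension.Ring) :
    c (gToL1 P' (Delta h h' x)) = η ((1 : B) ⊗ₜ KaehlerDifferential.D A P.toExtension.Ring x) := by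
  induction x using ringInduction with
  | C a =>
    change c (gToL1 P' (Delta h h' (Cv P a))) = η ((1 : B) ⊗ₜ KaehlerDifferential.D A _ (algebraMap A _ a))
    rw [Delta_Cv, map_zero, map_zero, Derivation.map_algebraMap, TensorProduct.tmul_zero, map_zero]
  | add p q hp hq => rw [Delta_add, map_add, map_add, hp, hq, map_add, TensorProduct.tmul_add, map_add]
  | mul_X p i hp =>
    rw [Delta_mul, map_add, map_smul, map_smul, map_add, algebraMap_smul_L1, algebraMap_smul_L1,
      map_smul, map_smul, hp, PresHom.algebraMap_ringHom, PresHom.algebraMap_ringHom,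
      IsScalarTower.algebraMap_smul B', IsScalarTower.algebraMap_smul B', Derivation.leibniz, TensorProduct.tmul_add,
      TensorProduct.tmul_smul, TensorProduct.tmul_smul, map_add,
      ← algebraMap_smul (R := P.toExtension.Ring) B p, ← algebraMap_smul (R := P.toExtension.Ring) B (Xv P i),
      map_smul, map_smul, Delta_Xv, gToL1_mk, ← hη, Algebra.Generators.cotangentSpaceBasis_apply]
    rfl

theorem T0pull_eq : h.T0pull M = h'.T0pull M := by
  refine LinearMap.ext fun ψ => T0_ext P M fun i => ?_
  change (ψ : L0 P' →ₗ[B'] M) (h.L0map (P.cotangentSpaceBasis i)) =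
    (ψ : L0 P' →ₗ[B'] M) (h'.L0map (P.cotangentSpaceBasis i))
  have hψ := LinearMap.congr_fun (show d1Star P' M (ψ : L0 P' →ₗ[B'] M) = 0 from ψ.2)
    ((1 : B') ⊗ₜ delta h h' i)
  rw [d1Star_apply, LinearMap.comp_apply, d1_tmul, one_smul, jmap_delta, map_sub, TensorProduct.tmul_sub,
    map_sub, LinearMap.zero_apply, sub_eq_zero] at hψ
  rw [L0map_basis, L0map_basis]
  exact hψ.symm

theorem T1pull_eq : h.T1pull M = h'.T1pull M := by
  refine LinearMap.ext fun y => ?_
  induction y using Submodule.Quotient.induction_on with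
  | H c =>
    let η : L0 P →ₗ[B] M :=
      P.cotangentSpaceBasis.constr ℕ fun i => (c : L1 P' →ₗ[B'] M) ((1 : B') ⊗ₜ delta h h' i)
    change (Submodule.Quotient.mk (h.cocycles1Pull M c) : T1 P M) = Submodule.Quotient.mk (h'.cocycles1Pull M c)
    rw [← sub_eq_zero, ← Submodule.Quotient.mk_sub, T1_mk_eq_zero_iff]
    refine ⟨-η, (L1basis P).ext fun s => ?_⟩
    change (-η) (d1 P (L1basis P s)) =
      (c : L1 P' →ₗ[B'] M) (h.L1map (L1basis P s)) - (c : L1 P' →ₗ[B'] M) (h'.L1map (L1basis P s))
    rw [L1map_basis, L1map_basis, ← neg_sub ((c : L1 P' →ₗ[B'] M) ((1 : B') ⊗ₜ h'.relVal s)), ← map_sub,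
      one_tmul_relVal_sub, map_add, cocycle_apply_d2, zero_add,
      apply_gToL1_Delta h h' M _ η (fun i => Module.Basis.constr_basis _ _ _ i), L1basis_apply, d1_tmul,
      one_smul, jmap_single, one_mul, LinearMap.neg_apply]

lemma mkG_relModMap_sub (f : relMod P) :
    mkG P' (h'.relModMap f) - mkG P' (h.relModMap f) =
      (Finsupp.sum f fun s r => h.ringHom r • mkG P' (err h h' s : relMod P')) + Delta h h' (jmap P f) := by
  classical
  induction f using Finsupp.induction_linear with
  | zero =>
    have : Delta h h' 0 = 0 := by rw [Delta, map_zero, Unitization.snd_zero]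
    simp [this]
  | add f g hf hg =>
    rw [Finsupp.sum_add_index' (fun s => by rw [map_zero, zero_smul]) (fun s r r' => by rw [map_add, add_smul]),
      map_add, map_add, map_add, map_add, map_add, Delta_add,
      add_sub_add_comm, hf, hg]
    abel
  | single s r =>
    rw [Finsupp.sum_single_index (by rw [map_zero, zero_smul]), jmap_single, PresHom.relModMap_single,
      PresHom.relModMap_single, map_smul, map_smul, mkG_err, Delta_mul]
    have h1 : h'.ringHom (rel P s) • Delta h h' r =
        (h'.ringHom r - h.ringHom r) • mkG P' (h'.relVal s) := by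
      have hj : jG P' (mkG P' (h'.relVal s)) = h'.ringHom (rel P s) := h'.jmap_relVal s
      rw [← jG_Delta h h' r, ← hj, jG_smul_comm]
    rw [h1, sub_smul, smul_sub, smul_sub]
    abel

theorem T2pull_eq : h.T2pull M = h'.T2pull M := by
  classical
  refine LinearMap.ext fun y => ?_
  induction y using Submodule.Quotient.induction_on with
  | H ψ =>
    let χ : L1 P →ₗ[B] M := (L1basis P).constr ℕ fun s => ψ (cls P' (err h h' s))
    change (Submodule.Quotient.mk (h.pull2 M ψ) : T2 P M) = Submodule.Quotient.mk (h'.pull2 M ψ)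
    rw [← sub_eq_zero, ← Submodule.Quotient.mk_sub, T2_mk_eq_zero_iff]
    refine ⟨-χ, linearMap_ext_L2 P fun q => ?_⟩
    rw [LinearMap.sub_apply, PresHom.pull2_apply, PresHom.pull2_apply, LinearMap.comp_apply, d2_cls,
      LinearMap.neg_apply]
    have key : ∀ g : PresHom P P', g.L2map (cls P q) = cls P' (g.relKerMap q) := fun g => by
      rw [cls_apply, PresHom.L2map_mk_tmul, map_one]; rfl
    rw [key, key, ← neg_sub (ψ (cls P' (h'.relKerMap q))), ← map_sub ψ, ← map_sub (cls P')]
    congr 1
    have hsum : cls P' (h'.relKerMap q - h.relKerMap q) =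
        cls P' (Finsupp.sum (q : relMod P) fun s r => h.ringHom r • err h h' s) := by
      refine cls_eq P' ((Submodule.Quotient.mk_eq_zero _).1 ?_)
      change mkG P' (((h'.relKerMap q - h.relKerMap q : relKer P') : relMod P') -
        ((Finsupp.sum (q : relMod P) fun s r => h.ringHom r • err h h' s : relKer P') : relMod P')) = 0
      have hq : jmap P (q : relMod P) = 0 := q.2
      have h0 : Delta h h' 0 = 0 := by rw [Delta, map_zero, Unitization.snd_zero]
      rw [map_sub, AddSubgroupClass.coe_sub, map_sub, PresHom.relKerMap_coe, PresHom.relKerMap_coe,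
        mkG_relModMap_sub, hq, h0, add_zero, sub_eq_zero]
      rw [Finsupp.sum, Finsupp.sum, AddSubmonoidClass.coe_finset_sum, map_sum]
      exact Finset.sum_congr rfl fun s _ => by rw [Submodule.coe_smul, map_smul]
    rw [hsum]
    rw [Finsupp.sum, map_sum, map_sum]
    have hq : (1 : B) ⊗ₜ[P.toExtension.Ring] (q : relMod P) =
        ∑ s ∈ (q : relMod P).support, algebraMap P.toExtension.Ring B ((q : relMod P) s) • L1basis P s := by
      conv_lhs => rw [← Finsupp.sum_single (q : relMod P), Finsupp.sum, TensorProduct.tmul_sum]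
      refine Finset.sum_congr rfl fun s _ => ?_
      rw [L1basis_apply, algebraMap_smul, ← TensorProduct.tmul_smul, Finsupp.smul_single, smul_eq_mul, mul_one]
    rw [hq, map_sum]
    refine Finset.sum_congr rfl fun s _ => ?_
    rw [map_smul χ, Module.Basis.constr_basis, map_smul (cls P'), ← algebraMap_smul (R := P'.toExtension.Ring) B',
      map_smul ψ, PresHom.algebraMap_ringHom, IsScalarTower.algebraMap_smul B']

end Groth.Agent.CotTLib
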