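import Mathlib

/-!
# Relations among a family of ring elements and the trivial (Koszul) relations

* for a weakly regular sequence all relations are trivial;
* if the ideal of the family is generated by some weakly regular sequence, relations with
  coefficients in the ideal are trivial;
* triviality is local.
-/

universe u v w

noncomputable section

namespace Groth.Agent.CotTLib

open RingTheory.Sequence

variable {S : Type u} [CommRing S] {σ : Type v} {τ : Type w}

/-- `c ↦ Σ c_s f_s`. -/
abbrev jf (f : σ → S) : (σ →₀ S) →ₗ[S] S := Finsupp.linearCombination S f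

/-- The trivial relations of a family. -/
def koszul (f : σ → S) : Submodule S (σ →₀ S) :=
  Submodule.span S {y | ∃ a b : σ →₀ S, y = jf f a • b - jf f b • a}

lemma koszul_le_ker (f : σ → S) : koszul f ≤ LinearMap.ker (jf f) := by
  refine Submodule.span_le.2 ?_
  rintro _ ⟨a, b, rfl⟩
  simp [mul_comm]

lemma mem_koszul_of_gen (f : σ → S) (a b : σ →₀ S) : jf f a • b - jf f b • a ∈ koszul f :=
  Submodule.subset_span ⟨a, b, rfl⟩

/-- A map compatible with the two families carries trivial relations to trivial relations. -/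
lemma map_koszul_le (f : σ → S) (g : τ → S) (β : (τ →₀ S) →ₗ[S] (σ →₀ S)) (h : jf f ∘ₗ β = jf g) :
    (koszul g).map β ≤ koszul f := by
  rw [koszul, Submodule.map_span, Submodule.span_le]
  rintro _ ⟨_, ⟨a, b, rfl⟩, rfl⟩
  rw [map_sub, map_smul, map_smul, ← h]
  exact mem_koszul_of_gen f (β a) (β b)

/-- All relations of a weakly regular sequence are trivial. -/
theorem ker_le_koszul_of_isWeaklyRegular : ∀ {r : ℕ} (y : Fin r → S),
    IsWeaklyRegular S (List.ofFn y) → LinearMap.ker (jf y) ≤ koszul y := by
  intro r
  induction r with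
  | zero =>
    intro y _ c _
    rw [show c = 0 from Subsingleton.elim _ _]
    exact Submodule.zero_mem _
  | succ r ih =>
    intro y hy c hc
    rw [LinearMap.mem_ker] at hc
    have hy' : IsWeaklyRegular S (List.ofFn (fun i : Fin r => y i.castSucc) ++ [y (Fin.last r)]) := by
      rw [← List.concat_eq_append, ← List.ofFn_succ']
      exact hy
    rw [isWeaklyRegular_append_iff, isWeaklyRegular_singleton_iff] at hy'
    have hsum : jf y c = ∑ i : Fin r, c i.castSucc * y i.castSucc + c (Fin.last r) * y (Fin.last r) := by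
      rw [Finsupp.linearCombination_apply, Finsupp.sum_fintype c (fun i a => a • y i) (fun i => zero_smul _ _),
        Fin.sum_univ_castSucc]
      rfl
    have hmem : c (Fin.last r) ∈ Ideal.span (Set.range fun i : Fin r => y i.castSucc) := by
      have h1 : Ideal.ofList (List.ofFn fun i : Fin r => y i.castSucc) =
          Ideal.span (Set.range fun i : Fin r => y i.castSucc) := by
        rw [Ideal.ofList]
        congr 1
        ext x
        simp
      have h2 := hy'.2
      rw [Ideal.smul_eq_mul, Ideal.mul_top, h1] at h2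
      rw [← Ideal.Quotient.eq_zero_iff_mem]
      refine h2 (a₁ := Submodule.Quotient.mk (c (Fin.last r))) (a₂ := Submodule.Quotient.mk 0) ?_
      change y (Fin.last r) • Submodule.Quotient.mk (c (Fin.last r)) = y (Fin.last r) • Submodule.Quotient.mk 0
      rw [← Submodule.Quotient.mk_smul, ← Submodule.Quotient.mk_smul, Submodule.Quotient.eq, smul_zero, sub_zero,
        smul_eq_mul]
      have : y (Fin.last r) * c (Fin.last r) = - ∑ i : Fin r, c i.castSucc * y i.castSucc := by
        rw [eq_neg_iff_add_eq_zero, mul_comm, add_comm, ← hsum, hc]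
      rw [this]
      exact neg_mem (Ideal.sum_mem _ fun i _ => Ideal.mul_mem_left _ _ (Ideal.subset_span ⟨i, rfl⟩))
    obtain ⟨e, he⟩ := Ideal.mem_span_range_iff_exists_fun.1 hmem
    -- correct `c` by a trivial relation to kill its last coordinate
    let eS : Fin (r + 1) →₀ S := Finsupp.equivFunOnFinite.symm (Fin.snoc e 0)
    let lastS : Fin (r + 1) →₀ S := Finsupp.single (Fin.last r) 1
    have heS : jf y eS = c (Fin.last r) := by
      rw [Finsupp.linearCombination_apply, Finsupp.sum_fintype eS (fun i a => a • y i) (fun i => zero_smul _ _),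
        Fin.sum_univ_castSucc, ← he]
      simp [eS]
    let c' : Fin (r + 1) →₀ S := c - (jf y eS • lastS - jf y lastS • eS)
    have hc'0 : c' (Fin.last r) = 0 := by
      simp [c', heS, lastS, eS]
    have hc'k : jf y c' = 0 := by
      rw [map_sub, hc, zero_sub, neg_eq_zero]
      exact koszul_le_ker y (mem_koszul_of_gen y eS lastS)
    let ι : (Fin r →₀ S) →ₗ[S] (Fin (r + 1) →₀ S) := Finsupp.lmapDomain S S Fin.castSucc
    let d : Fin r →₀ S := Finsupp.equivFunOnFinite.symm fun i => c' i.castSucc
    have hd : ι d = c' := by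
      ext i
      refine Fin.lastCases ?_ (fun j => ?_) i
      · rw [hc'0, Finsupp.lmapDomain_apply, Finsupp.mapDomain_notin_range _ _ (by
          rintro ⟨j, hj⟩; exact Fin.castSucc_ne_last j hj)]
      · rw [Finsupp.lmapDomain_apply, Finsupp.mapDomain_apply (Fin.castSucc_injective r)]
        rfl
    have hι : jf y ∘ₗ ι = jf (fun i => y i.castSucc) :=
      Finsupp.lhom_ext fun i b => by simp [ι]
    have hdker : d ∈ LinearMap.ker (jf fun i => y i.castSucc) := by
      rw [LinearMap.mem_ker, ← hι, LinearMap.comp_apply, hd, hc'k]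
    have := map_koszul_le y _ ι hι ⟨d, ih _ hy'.1 hdker, rfl⟩
    rw [hd] at this
    have hfin := Submodule.add_mem _ this (mem_koszul_of_gen y eS lastS)
    rwa [sub_add_cancel] at hfin

/-- If the ideal of the family is generated by a weakly regular sequence, relations with coefficients in
that ideal are trivial. -/
theorem mem_koszul_of_coeff_mem (f : σ → S) {r : ℕ} (y : Fin r → S) (hy : IsWeaklyRegular S (List.ofFn y))
    (hspan : Ideal.span (Set.range f) = Ideal.span (Set.range y)) (c : σ →₀ S) (hc : jf f c = 0)
    (hcI : ∀ s, c s ∈ Ideal.span (Set.range f)) : c ∈ koszul f := by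
  classical
  have hfy : ∀ s, ∃ d : Fin r →₀ S, jf y d = f s := fun s =>
    Finsupp.mem_span_range_iff_exists_finsupp.1 (show f s ∈ Ideal.span (Set.range y) by
      rw [← hspan]; exact Ideal.subset_span ⟨s, rfl⟩)
  have hyf : ∀ j, ∃ a : σ →₀ S, jf f a = y j := fun j =>
    Finsupp.mem_span_range_iff_exists_finsupp.1 (show y j ∈ Ideal.span (Set.range f) by
      rw [hspan]; exact Ideal.subset_span ⟨j, rfl⟩)
  choose d hd using hfy
  choose a ha using hyf
  let α : (σ →₀ S) →ₗ[S] (Fin r →₀ S) := Finsupp.linearCombination S d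
  let β : (Fin r →₀ S) →ₗ[S] (σ →₀ S) := Finsupp.linearCombination S a
  have hα : jf y ∘ₗ α = jf f := Finsupp.lhom_ext fun s b => by simp [α, hd]
  have hβ : jf f ∘ₗ β = jf y := Finsupp.lhom_ext fun j b => by simp [β, ha]
  have h1 : β (α c) ∈ koszul f :=
    map_koszul_le f y β hβ ⟨α c, ker_le_koszul_of_isWeaklyRegular y hy (by
      rw [LinearMap.mem_ker, ← LinearMap.comp_apply, hα, hc]), rfl⟩
  have h2 : c - β (α c) ∈ koszul f := by
    conv => enter [2]; rw [← Finsupp.sum_single c, Finsupp.sum, map_sum, map_sum, ← Finset.sum_sub_distrib]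
    refine Submodule.sum_mem _ fun s _ => ?_
    let z : σ →₀ S := Finsupp.single s 1 - β (α (Finsupp.single s 1))
    have hz : jf f z = 0 := by
      rw [map_sub, ← LinearMap.comp_apply (jf f) β, hβ, ← LinearMap.comp_apply (jf y) α, hα, sub_self]
    have hsz : Finsupp.single s (c s) - β (α (Finsupp.single s (c s))) = c s • z := by
      rw [show (Finsupp.single s (c s) : σ →₀ S) = c s • Finsupp.single s 1 by
        rw [Finsupp.smul_single, smul_eq_mul, mul_one], map_smul, map_smul, ← smul_sub]
    obtain ⟨x, hx⟩ := Finsupp.mem_span_range_iff_exists_finsupp.1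
      (hcI s : c s ∈ Submodule.span S (Set.range f))
    have hx' : jf f x = c s := hx
    rw [hsz, ← hx', show jf f x • z = jf f x • z - jf f z • x by rw [hz, zero_smul, sub_zero]]
    exact mem_koszul_of_gen f x z
  have := Submodule.add_mem _ h2 h1
  rwa [sub_add_cancel] at this

variable {R : Type u} [CommRing R]

/-- If `c` is a trivial relation at a prime `p`, some multiple of `c` by an element outside `p` is trivial. -/
theorem exists_smul_mem_koszul (f : σ → R) (c : σ →₀ R) (p : Ideal R) [hp : p.IsPrime]
    (h : c.mapRange (algebraMap R (Localization.AtPrime p)) (map_zero _) ∈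
      koszul (fun s => algebraMap R (Localization.AtPrime p) (f s))) :
    ∃ t ∉ p, t • c ∈ koszul f := by
  classical
  let L := Localization.AtPrime p
  let φ : (σ →₀ R) →ₗ[R] (σ →₀ L) := Finsupp.mapRange.linearMap (Algebra.linearMap R L)
  have hφ : ∀ a, φ a = a.mapRange (algebraMap R L) (map_zero _) := fun a => rfl
  have hj : ∀ a, jf (fun s => algebraMap R L (f s)) (φ a) = algebraMap R L (jf f a) := fun a => by
    induction a using Finsupp.induction_linear with
    | zero => simp
    | add a b ha hb => rw [map_add, map_add, ha, hb, map_add, map_add]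
    | single s r => simp [hφ]
  have hsmul : ∀ (r : R) (a : σ →₀ R), φ (r • a) = algebraMap R L r • φ a := fun r a => by
    rw [map_smul, algebraMap_smul]
  -- every element of `σ →₀ L` is a unit multiple of an image
  have hsurj : ∀ a : σ →₀ L, ∃ t : p.primeCompl, ∃ b, algebraMap R L t • a = φ b := fun a => by
    induction a using Finsupp.induction_linear with
    | zero => exact ⟨1, 0, by simp⟩
    | add a b ha hb =>
      obtain ⟨t, x, hx⟩ := ha
      obtain ⟨t', x', hx'⟩ := hb
      refine ⟨t * t', (t' : R) • x + (t : R) • x', ?_⟩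
      rw [map_add, hsmul, hsmul, ← hx, ← hx', smul_smul, smul_smul, smul_add, Submonoid.coe_mul, map_mul]
      rw [mul_comm (algebraMap R L (t' : R))]
    | single s r =>
      obtain ⟨⟨x, t⟩, hxt⟩ := IsLocalization.surj p.primeCompl r
      exact ⟨t, Finsupp.single s x, by rw [hφ, Finsupp.mapRange_single, Finsupp.smul_single, smul_eq_mul,
        mul_comm, hxt]⟩
  have key : ∀ y ∈ koszul (fun s => algebraMap R L (f s)),
      ∃ t : p.primeCompl, ∃ k ∈ koszul f, algebraMap R L t • y = φ k := by
    intro y hy
    induction hy using Submodule.span_induction with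
    | mem y hy =>
      obtain ⟨a, b, rfl⟩ := hy
      obtain ⟨t, x, hx⟩ := hsurj a
      obtain ⟨t', x', hx'⟩ := hsurj b
      refine ⟨t * t', _, mem_koszul_of_gen f x x', ?_⟩
      rw [map_sub, hsmul, hsmul, ← hj, ← hj, ← hx, ← hx', map_smul, map_smul, smul_sub, smul_smul, smul_smul,
        smul_smul, smul_smul, Submonoid.coe_mul, map_mul, smul_eq_mul, smul_eq_mul]
      congr 2 <;> ring
    | zero => exact ⟨1, 0, Submodule.zero_mem _, by simp⟩
    | add a b _ _ ha hb =>
      obtain ⟨t, x, hx, hx'⟩ := ha
      obtain ⟨t', z, hz, hz'⟩ := hb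
      refine ⟨t * t', (t' : R) • x + (t : R) • z,
        Submodule.add_mem _ (Submodule.smul_mem _ _ hx) (Submodule.smul_mem _ _ hz), ?_⟩
      rw [map_add, hsmul, hsmul, ← hx', ← hz', smul_smul, smul_smul, smul_add, Submonoid.coe_mul, map_mul]
      rw [mul_comm (algebraMap R L (t' : R))]
    | smul r a _ ha =>
      obtain ⟨t, x, hx, hx'⟩ := ha
      obtain ⟨⟨r', t'⟩, hr⟩ := IsLocalization.surj p.primeCompl r
      refine ⟨t * t', r' • x, Submodule.smul_mem _ _ hx, ?_⟩
      rw [hsmul, ← hx', smul_smul, smul_smul, Submonoid.coe_mul, map_mul, ← hr]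
      congr 1
      ring
  obtain ⟨t, k, hk, htk⟩ := key _ h
  rw [← hφ, ← hsmul] at htk
  have hex : ∀ s, ∃ u : p.primeCompl, (u : R) * ((t : R) • c) s = (u : R) * k s := fun s =>
    (IsLocalization.eq_iff_exists p.primeCompl L).1 (DFunLike.congr_fun htk s)
  choose u hu using hex
  let U : R := ∏ s ∈ c.support ∪ k.support, (u s : R)
  refine ⟨U * t, fun hUt => ?_, ?_⟩
  · rcases hp.mem_or_mem hUt with h1 | h1
    · obtain ⟨s, -, hs⟩ := hp.prod_mem_iff.1 h1
      exact (u s).2 hs
    · exact t.2 h1
  ·
    change (U * (t : R)) • c ∈ koszul f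
    rw [show (U * (t : R)) • c = U • k from Finsupp.ext fun s => ?_]
    · exact Submodule.smul_mem _ _ hk
    · by_cases hs : s ∈ c.support ∪ k.support
      · obtain ⟨w, hw⟩ := Finset.dvd_prod_of_mem (fun s => (u s : R)) hs
        have := hu s
        simp only [Finsupp.smul_apply, smul_eq_mul] at this ⊢
        change U * t * c s = U * k s
        rw [show U = (u s : R) * w from hw]
        linear_combination w * this
      · simp only [Finset.mem_union, not_or, Finsupp.notMem_support_iff] at hs
        simp [hs.1, hs.2]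

/-- Membership in the trivial relations is local. -/
theorem mem_koszul_of_local (f : σ → R) (c : σ →₀ R)
    (h : ∀ (p : Ideal R) [p.IsMaximal],
      c.mapRange (algebraMap R (Localization.AtPrime p)) (map_zero _) ∈
        koszul (fun s => algebraMap R (Localization.AtPrime p) (f s))) :
    c ∈ koszul f := by
  classical
  let ann : Ideal R := (koszul f).comap (LinearMap.toSpanSingleton R (σ →₀ R) c)
  suffices ann = ⊤ by
    have h1 : (1 : R) ∈ ann := this ▸ Submodule.mem_top
    simpa [ann] using h1
  by_contra hne
  obtain ⟨p, hp, hle⟩ := Ideal.exists_le_maximal ann hne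
  obtain ⟨t, ht, htc⟩ := exists_smul_mem_koszul f c p (h p)
  exact ht (hle htc)

end Groth.Agent.CotTLib
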