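import Mathlib

/-!
# The nine-term sequence of a sequence of three-term complexes

A three-term complex `C⁰ → C¹ → C²` is recorded together with models of its cohomology modules.
-/

universe u v

noncomputable section

namespace Groth.Agent.CotTLib

variable (R : Type u) [CommRing R]

/-- A three-term complex with models of its cohomology modules. -/
structure Cx where
  C0 : ModuleCat.{v} R
  C1 : ModuleCat.{v} R
  C2 : ModuleCat.{v} R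
  Z1 : ModuleCat.{v} R
  T0 : ModuleCat.{v} R
  T1 : ModuleCat.{v} R
  T2 : ModuleCat.{v} R
  d1 : C0 →ₗ[R] C1
  d2 : C1 →ₗ[R] C2
  i0 : T0 →ₗ[R] C0
  z1 : Z1 →ₗ[R] C1
  p1 : Z1 →ₗ[R] T1
  p2 : C2 →ₗ[R] T2
  d2_d1 : ∀ c, d2 (d1 c) = 0
  i0_injective : Function.Injective i0
  mem_i0 : ∀ c, d1 c = 0 ↔ ∃ t, i0 t = c
  z1_injective : Function.Injective z1
  mem_z1 : ∀ c, d2 c = 0 ↔ ∃ z, z1 z = c
  p1_surjective : Function.Surjective p1
  p1_eq_zero : ∀ z, p1 z = 0 ↔ ∃ c, d1 c = z1 z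
  p2_surjective : Function.Surjective p2
  p2_eq_zero : ∀ c, p2 c = 0 ↔ ∃ b, d2 b = c

variable {R}

/-- A morphism of three-term complexes with the induced maps on cohomology. -/
structure CxHom (X Y : Cx.{u, v} R) where
  f0 : X.C0 →ₗ[R] Y.C0
  f1 : X.C1 →ₗ[R] Y.C1
  f2 : X.C2 →ₗ[R] Y.C2
  fz : X.Z1 →ₗ[R] Y.Z1
  t0 : X.T0 →ₗ[R] Y.T0
  t1 : X.T1 →ₗ[R] Y.T1
  t2 : X.T2 →ₗ[R] Y.T2
  comm1 : ∀ c, f1 (X.d1 c) = Y.d1 (f0 c)
  comm2 : ∀ c, f2 (X.d2 c) = Y.d2 (f1 c)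
  comm_i0 : ∀ t, Y.i0 (t0 t) = f0 (X.i0 t)
  comm_z1 : ∀ z, Y.z1 (fz z) = f1 (X.z1 z)
  comm_p1 : ∀ z, t1 (X.p1 z) = Y.p1 (fz z)
  comm_p2 : ∀ c, t2 (X.p2 c) = Y.p2 (f2 c)

/-- A linear map from a functional linear relation. -/
lemma exists_linearMap_of_graph {M N : Type*} [AddCommGroup M] [Module R M] [AddCommGroup N] [Module R N]
    (Γ : Submodule R (M × N)) (tot : ∀ a, ∃ b, (a, b) ∈ Γ) (uniq : ∀ b, ((0 : M), b) ∈ Γ → b = 0) :
    ∃ f : M →ₗ[R] N, ∀ a b, (a, b) ∈ Γ → f a = b := by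
  choose f hf using tot
  have key : ∀ a b, (a, b) ∈ Γ → f a = b := fun a b h => by
    have := Γ.sub_mem (hf a) h
    rw [Prod.mk_sub_mk, sub_self] at this
    exact sub_eq_zero.1 (uniq _ this)
  exact ⟨{ toFun := f
           map_add' := fun a b => key _ _ (Γ.add_mem (hf a) (hf b))
           map_smul' := fun r a => key _ _ (Γ.smul_mem r (hf a)) }, key⟩

variable {X Y Z : Cx.{u, v} R} (F : CxHom X Y) (G : CxHom Y Z)

/-- The nine-term sequence of `0 → X → Y → Z`, right exact in degrees `0` and `1`. -/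
theorem nine_term (i0 : Function.Injective F.f0) (i1 : Function.Injective F.f1) (i2 : Function.Injective F.f2)
    (e0 : Function.Exact F.f0 G.f0) (e1 : Function.Exact F.f1 G.f1) (e2 : Function.Exact F.f2 G.f2)
    (s0 : Function.Surjective G.f0) (s1 : Function.Surjective G.f1) :
    Function.Injective F.t0 ∧ Function.Exact F.t0 G.t0 ∧ Function.Exact F.t1 G.t1 ∧
      Function.Exact F.t2 G.t2 ∧
      ∃ (δ0 : Z.T0 →ₗ[R] X.T1) (δ1 : Z.T1 →ₗ[R] X.T2),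
        Function.Exact G.t0 δ0 ∧ Function.Exact δ0 F.t1 ∧
        Function.Exact G.t1 δ1 ∧ Function.Exact δ1 F.t2 := by
  have gf0 : ∀ x, G.f0 (F.f0 x) = 0 := e0.apply_apply_eq_zero
  have gf1 : ∀ x, G.f1 (F.f1 x) = 0 := e1.apply_apply_eq_zero
  have gf2 : ∀ x, G.f2 (F.f2 x) = 0 := e2.apply_apply_eq_zero
  have zi : ∀ (W : Cx.{u, v} R) (t : W.T0), W.d1 (W.i0 t) = 0 := fun W t => (W.mem_i0 _).2 ⟨t, rfl⟩
  have zz : ∀ (W : Cx.{u, v} R) (z : W.Z1), W.d2 (W.z1 z) = 0 := fun W z => (W.mem_z1 _).2 ⟨z, rfl⟩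
  -- the first connecting map
  let Γ0 : Submodule R (Z.T0 × X.T1) :=
    { carrier := {p | ∃ c z, G.f0 c = Z.i0 p.1 ∧ F.f1 (X.z1 z) = Y.d1 c ∧ X.p1 z = p.2}
      zero_mem' := ⟨0, 0, by simp, by simp, by simp⟩
      add_mem' := by
        rintro p q ⟨c, z, h1, h2, h3⟩ ⟨c', z', h1', h2', h3'⟩
        exact ⟨c + c', z + z', by simp [h1, h1'], by simp [h2, h2'], by simp [h3, h3']⟩
      smul_mem' := by
        rintro r p ⟨c, z, h1, h2, h3⟩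
        exact ⟨r • c, r • z, by simp [h1], by simp [h2], by simp [h3]⟩ }
  have tot0 : ∀ t, ∃ x, (t, x) ∈ Γ0 := fun t => by
    obtain ⟨c, hc⟩ := s0 (Z.i0 t)
    obtain ⟨e, he⟩ := (e1 _).1 (show G.f1 (Y.d1 c) = 0 by rw [G.comm1, hc, zi])
    obtain ⟨z, rfl⟩ := (X.mem_z1 e).1 (i2 (by rw [F.comm2, he, Y.d2_d1, map_zero]))
    exact ⟨X.p1 z, c, z, hc, he, rfl⟩
  have uniq0 : ∀ x, ((0 : Z.T0), x) ∈ Γ0 → x = 0 := by
    rintro x ⟨c, z, h1, h2, rfl⟩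
    obtain ⟨a, rfl⟩ := (e0 c).1 (h1.trans (map_zero _))
    exact (X.p1_eq_zero z).2 ⟨a, i1 (by rw [h2, F.comm1])⟩
  obtain ⟨δ0, hδ0⟩ := exists_linearMap_of_graph Γ0 tot0 uniq0
  -- the second connecting map
  let Γ1 : Submodule R (Z.T1 × X.T2) :=
    { carrier := {p | ∃ c e w, Z.p1 w = p.1 ∧ G.f1 c = Z.z1 w ∧ F.f2 e = Y.d2 c ∧ X.p2 e = p.2}
      zero_mem' := ⟨0, 0, 0, by simp, by simp, by simp, by simp⟩
      add_mem' := by
        rintro p q ⟨c, e, w, h0, h1, h2, h3⟩ ⟨c', e', w', h0', h1', h2', h3'⟩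
        exact ⟨c + c', e + e', w + w', by simp [h0, h0'], by simp [h1, h1'], by simp [h2, h2'],
          by simp [h3, h3']⟩
      smul_mem' := by
        rintro r p ⟨c, e, w, h0, h1, h2, h3⟩
        exact ⟨r • c, r • e, r • w, by simp [h0], by simp [h1], by simp [h2], by simp [h3]⟩ }
  have tot1 : ∀ t, ∃ x, (t, x) ∈ Γ1 := fun t => by
    obtain ⟨w, rfl⟩ := Z.p1_surjective t
    obtain ⟨c, hc⟩ := s1 (Z.z1 w)
    obtain ⟨e, he⟩ := (e2 _).1 (show G.f2 (Y.d2 c) = 0 by rw [G.comm2, hc, zz])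
    exact ⟨X.p2 e, c, e, w, rfl, hc, he, rfl⟩
  have uniq1 : ∀ x, ((0 : Z.T1), x) ∈ Γ1 → x = 0 := by
    rintro x ⟨c, e, w, h0, h1, h2, rfl⟩
    obtain ⟨g, hg⟩ := (Z.p1_eq_zero w).1 h0
    obtain ⟨b, rfl⟩ := s0 g
    obtain ⟨a, ha⟩ := (e1 (c - Y.d1 b)).1 (by rw [map_sub, G.comm1, hg, h1, sub_self])
    exact (X.p2_eq_zero e).2 ⟨a, i2 (by rw [h2, F.comm2, ha, map_sub, Y.d2_d1, sub_zero])⟩
  obtain ⟨δ1, hδ1⟩ := exists_linearMap_of_graph Γ1 tot1 uniq1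
  refine ⟨fun a b h => X.i0_injective (i0 (by rw [← F.comm_i0, ← F.comm_i0, h])), ?_, ?_, ?_, δ0, δ1,
    ?_, ?_, ?_, ?_⟩
  · -- exactness at `T⁰ Y`
    intro t
    constructor
    · intro h
      obtain ⟨a, ha⟩ := (e0 (Y.i0 t)).1 (by rw [← G.comm_i0, h, map_zero])
      obtain ⟨s, rfl⟩ := (X.mem_i0 a).1 (i1 (by rw [F.comm1, ha, zi, map_zero]))
      exact ⟨s, Y.i0_injective (by rw [F.comm_i0, ha])⟩
    · rintro ⟨s, rfl⟩
      exact Z.i0_injective (by rw [G.comm_i0, F.comm_i0, gf0, map_zero])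
  · -- exactness at `T¹ Y`
    intro t
    obtain ⟨z, rfl⟩ := Y.p1_surjective t
    constructor
    · intro h
      rw [G.comm_p1, Z.p1_eq_zero] at h
      obtain ⟨g, hg⟩ := h
      obtain ⟨b, rfl⟩ := s0 g
      obtain ⟨a, ha⟩ := (e1 (Y.z1 z - Y.d1 b)).1 (by rw [map_sub, G.comm1, hg, G.comm_z1, sub_self])
      obtain ⟨w, rfl⟩ := (X.mem_z1 a).1 (i2 (by rw [F.comm2, ha, map_sub, zz, Y.d2_d1, sub_zero, map_zero]))
      refine ⟨X.p1 w, ?_⟩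
      rw [F.comm_p1, ← sub_eq_zero, ← map_sub, Y.p1_eq_zero]
      exact ⟨-b, by rw [map_neg, map_sub, F.comm_z1, ha]; abel⟩
    · rintro ⟨s, hs⟩
      obtain ⟨w, rfl⟩ := X.p1_surjective s
      rw [← hs, F.comm_p1, G.comm_p1, Z.p1_eq_zero]
      exact ⟨0, by rw [map_zero, G.comm_z1, F.comm_z1, gf1]⟩
  · -- exactness at `T² Y`
    intro t
    obtain ⟨c, rfl⟩ := Y.p2_surjective t
    constructor
    · intro h
      rw [G.comm_p2, Z.p2_eq_zero] at h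
      obtain ⟨g, hg⟩ := h
      obtain ⟨b, rfl⟩ := s1 g
      obtain ⟨a, ha⟩ := (e2 (c - Y.d2 b)).1 (by rw [map_sub, G.comm2, hg, sub_self])
      refine ⟨X.p2 a, ?_⟩
      rw [F.comm_p2, ha, map_sub, (Y.p2_eq_zero (Y.d2 b)).2 ⟨b, rfl⟩, sub_zero]
    · rintro ⟨s, hs⟩
      obtain ⟨a, rfl⟩ := X.p2_surjective s
      rw [← hs, F.comm_p2, G.comm_p2, gf2, map_zero]
  · -- exactness at `T⁰ Z`
    intro t
    obtain ⟨x, hx⟩ := tot0 t
    rw [hδ0 t x hx]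
    obtain ⟨c, z, h1, h2, rfl⟩ := hx
    constructor
    · intro h
      obtain ⟨a, ha⟩ := (X.p1_eq_zero z).1 h
      obtain ⟨s, hs⟩ := (Y.mem_i0 (c - F.f0 a)).1 (by rw [map_sub, ← F.comm1, ha, h2, sub_self])
      exact ⟨s, Z.i0_injective (by rw [G.comm_i0, hs, map_sub, gf0, sub_zero]; exact h1)⟩
    · rintro ⟨s, rfl⟩
      obtain ⟨a, ha⟩ := (e0 (c - Y.i0 s)).1 (by rw [map_sub, h1, G.comm_i0, sub_self])
      exact (X.p1_eq_zero z).2 ⟨a, i1 (by rw [F.comm1, ha, map_sub, zi, sub_zero, h2])⟩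
  · -- exactness at `T¹ X`
    intro x
    obtain ⟨z, rfl⟩ := X.p1_surjective x
    constructor
    · intro h
      rw [F.comm_p1, Y.p1_eq_zero] at h
      obtain ⟨c, hc⟩ := h
      rw [F.comm_z1] at hc
      obtain ⟨t, ht⟩ := (Z.mem_i0 (G.f0 c)).1 (by rw [← G.comm1, hc, gf1])
      exact ⟨t, hδ0 t _ ⟨c, z, ht.symm, hc.symm, rfl⟩⟩
    · rintro ⟨t, ht⟩
      obtain ⟨y, hy⟩ := tot0 t
      rw [hδ0 t y hy] at ht
      obtain ⟨c, w, -, h2, h3⟩ := hy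
      change X.p1 w = y at h3
      rw [← ht, ← h3, F.comm_p1, Y.p1_eq_zero]
      exact ⟨c, by rw [F.comm_z1, h2]⟩
  · -- exactness at `T¹ Z`
    intro t
    obtain ⟨x, hx⟩ := tot1 t
    rw [hδ1 t x hx]
    obtain ⟨c, e, w, h0, h1, h2, rfl⟩ := hx
    change Z.p1 w = t at h0
    subst h0
    constructor
    · intro h
      obtain ⟨a, ha⟩ := (X.p2_eq_zero e).1 h
      obtain ⟨z, hz⟩ := (Y.mem_z1 (c - F.f1 a)).1 (by rw [map_sub, ← F.comm2, ha, h2, sub_self])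
      exact ⟨Y.p1 z, by rw [G.comm_p1, Z.z1_injective
        (show Z.z1 (G.fz z) = Z.z1 w by rw [G.comm_z1, hz, map_sub, gf1, sub_zero, h1])]⟩
    · rintro ⟨s, hs⟩
      obtain ⟨z, rfl⟩ := Y.p1_surjective s
      rw [G.comm_p1, ← sub_eq_zero, ← map_sub, Z.p1_eq_zero] at hs
      obtain ⟨g, hg⟩ := hs
      obtain ⟨b, rfl⟩ := s0 g
      rw [map_sub, G.comm_z1, ← h1, ← G.comm1] at hg
      obtain ⟨a, ha⟩ := (e1 (Y.z1 z - c - Y.d1 b)).1 (by rw [map_sub, map_sub, hg, sub_self])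
      refine (X.p2_eq_zero e).2 ⟨-a, i2 ?_⟩
      rw [map_neg, map_neg, F.comm2, ha, map_sub, map_sub, zz, Y.d2_d1, h2]
      abel
  · -- exactness at `T² X`
    intro x
    obtain ⟨e, rfl⟩ := X.p2_surjective x
    constructor
    · intro h
      rw [F.comm_p2, Y.p2_eq_zero] at h
      obtain ⟨c, hc⟩ := h
      obtain ⟨w, hw⟩ := (Z.mem_z1 (G.f1 c)).1 (by rw [← G.comm2, hc, gf2])
      exact ⟨Z.p1 w, hδ1 _ _ ⟨c, e, w, rfl, hw.symm, hc.symm, rfl⟩⟩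
    · rintro ⟨t, ht⟩
      obtain ⟨y, hy⟩ := tot1 t
      rw [hδ1 t y hy] at ht
      obtain ⟨c, e', w, -, -, h2, h3⟩ := hy
      change X.p2 e' = y at h3
      rw [← ht, ← h3, F.comm_p2, Y.p2_eq_zero]
      exact ⟨c, h2.symm⟩

end Groth.Agent.CotTLib
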