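import Groth.Agent.CotTLib.Functor
import Groth.Agent.CotTLib.Snake

/-!
# The dual complex of a presentation as a three-term complex
-/

universe u v w t m b

open TensorProduct

noncomputable section

namespace Groth.Agent.CotTLib

open _root_.CotT

variable {A : Type u} {B : Type v} {ι : Type w} {σ : Type t}
variable [CommRing A] [CommRing B] [Algebra A B]
variable (P : Algebra.Presentation A B ι σ) (M : Type m) [AddCommGroup M] [Module B M]
variable (B₀ : Type b) [CommRing B₀] [Algebra B₀ B] [Module B₀ M] [IsScalarTower B₀ B M]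

/-- The complex `Hom(L•, M)`, seen over a base ring `B₀`, with its cohomology. -/
def cxOf : Cx.{b, max u v w t m} B₀ where
  C0 := ModuleCat.of B₀ (ULift.{t} (L0 P →ₗ[B] M))
  C1 := ModuleCat.of B₀ (L1 P →ₗ[B] M)
  C2 := ModuleCat.of B₀ (L2 P →ₗ[B] M)
  Z1 := ModuleCat.of B₀ (cocycles1 P M)
  T0 := ModuleCat.of B₀ (ULift.{t} (T0 P M))
  T1 := ModuleCat.of B₀ (T1 P M)
  T2 := ModuleCat.of B₀ (T2 P M)
  d1 := (d1Star P M).restrictScalars B₀ ∘ₗ ULift.moduleEquiv.toLinearMap
  d2 := (d2Star P M).restrictScalars B₀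
  i0 := ULift.moduleEquiv.symm.toLinearMap ∘ₗ
    ((LinearMap.ker (d1Star P M)).subtype.restrictScalars B₀ ∘ₗ ULift.moduleEquiv.toLinearMap)
  z1 := (cocycles1 P M).subtype.restrictScalars B₀
  p1 := (coboundaries1 P M).mkQ.restrictScalars B₀
  p2 := (LinearMap.range (d2Star P M)).mkQ.restrictScalars B₀
  d2_d1 c := LinearMap.congr_fun (d2Star_comp_d1Star P M) c.down
  i0_injective _ _ h := ULift.ext _ _ (Subtype.ext (congrArg ULift.down h))
  mem_i0 c := ⟨fun h => ⟨ULift.up ⟨c.down, h⟩, rfl⟩, by rintro ⟨t, rfl⟩; exact t.down.2⟩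
  z1_injective := Subtype.val_injective
  mem_z1 c := ⟨fun h => ⟨⟨c, h⟩, rfl⟩, by rintro ⟨z, rfl⟩; exact z.2⟩
  p1_surjective := Submodule.mkQ_surjective (coboundaries1 P M)
  p1_eq_zero z := (T1_mk_eq_zero_iff P M z).trans
    ⟨fun ⟨ψ, h⟩ => ⟨ULift.up ψ, h⟩, fun ⟨ψ, h⟩ => ⟨ψ.down, h⟩⟩
  p2_surjective := Submodule.mkQ_surjective (LinearMap.range (d2Star P M))
  p2_eq_zero c := T2_mk_eq_zero_iff P M c

/-- `ULift` of a linear map. -/
def uliftMap {R : Type b} [CommRing R] {X : Type*} {Y : Type*} [AddCommGroup X] [Module R X] [AddCommGroup Y]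
    [Module R Y] (f : X →ₗ[R] Y) : ULift.{t} X →ₗ[R] ULift.{t} Y :=
  ULift.moduleEquiv.symm.toLinearMap ∘ₗ f ∘ₗ ULift.moduleEquiv.toLinearMap

lemma exact_ulift {R : Type b} [CommRing R] {X Y Z : Type*} [AddCommGroup X] [Module R X] [AddCommGroup Y]
    [Module R Y] [AddCommGroup Z] [Module R Z] {f : X →ₗ[R] Y} {g : Y →ₗ[R] Z} (h : Function.Exact f g) :
    Function.Exact (uliftMap.{t} f) (uliftMap.{t} g) := by
  intro y
  constructor
  · intro hy
    obtain ⟨x, hx⟩ := (h y.down).1 (congrArg ULift.down hy)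
    exact ⟨ULift.up x, ULift.ext _ _ hx⟩
  · rintro ⟨x, rfl⟩
    exact ULift.ext _ _ ((h _).2 ⟨x.down, rfl⟩)

lemma exact_of_ulift {R : Type b} [CommRing R] {X Y Z : Type*} [AddCommGroup X] [Module R X] [AddCommGroup Y]
    [Module R Y] [AddCommGroup Z] [Module R Z] {f : X →ₗ[R] Y} {g : Y →ₗ[R] Z}
    (h : Function.Exact (uliftMap.{t} f) (uliftMap.{t} g)) : Function.Exact f g := by
  intro y
  constructor
  · intro hy
    obtain ⟨x, hx⟩ := (h (ULift.up y)).1 (ULift.ext _ _ hy)
    exact ⟨x.down, congrArg ULift.down hx⟩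
  · rintro ⟨x, rfl⟩
    exact congrArg ULift.down ((h _).2 ⟨ULift.up x, rfl⟩)

end Groth.Agent.CotTLib

namespace Groth.Agent.CotTLib

open _root_.CotT

variable {A : Type u} {B : Type v} {ι : Type w} {σ : Type t}
variable [CommRing A] [CommRing B] [Algebra A B]
variable (P : Algebra.Presentation A B ι σ)
variable {M N K : Type m} [AddCommGroup M] [Module B M] [AddCommGroup N] [Module B N] [AddCommGroup K] [Module B K]

/-- The morphism of complexes induced by a map of coefficients. -/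
def cxMap (g : M →ₗ[B] N) : CxHom (cxOf P M B) (cxOf P N B) where
  f0 := uliftMap.{t} (LinearMap.llcomp B (L0 P) M N g)
  f1 := LinearMap.llcomp B (L1 P) M N g
  f2 := LinearMap.llcomp B (L2 P) M N g
  fz := cocycles1Map P g
  t0 := uliftMap.{t} (T0map P g)
  t1 := T1map P g
  t2 := T2map P g
  comm1 _ := rfl
  comm2 _ := rfl
  comm_i0 _ := rfl
  comm_z1 _ := rfl
  comm_p1 _ := rfl
  comm_p2 _ := rfl

variable {X : Type*} [AddCommGroup X] [Module B X]

/-- Postcomposition. -/
abbrev compL (X : Type*) [AddCommGroup X] [Module B X] (g : M →ₗ[B] N) : (X →ₗ[B] M) →ₗ[B] (X →ₗ[B] N) :=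
  LinearMap.llcomp B X M N g

lemma llcomp_exact (f : M →ₗ[B] N) (g : N →ₗ[B] K) (hf : Function.Injective f) (hfg : Function.Exact f g) :
    Function.Exact (compL X f) (compL X g) := by
  intro φ
  constructor
  · intro h
    have : ∀ x, φ x ∈ LinearMap.range f := fun x => (hfg (φ x)).1 (LinearMap.congr_fun h x)
    refine ⟨(LinearEquiv.ofInjective f hf).symm.toLinearMap ∘ₗ φ.codRestrict _ this, LinearMap.ext fun x => ?_⟩
    exact congrArg Subtype.val ((LinearEquiv.ofInjective f hf).apply_symm_apply ⟨φ x, this x⟩)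
  · rintro ⟨ψ, rfl⟩
    exact LinearMap.ext fun x => hfg.apply_apply_eq_zero (ψ x)

lemma llcomp_injective (f : M →ₗ[B] N) (hf : Function.Injective f) :
    Function.Injective (compL X f) :=
  fun _ _ h => LinearMap.ext fun x => hf (LinearMap.congr_fun h x)

lemma llcomp_surjective {κ : Type*} (b : Module.Basis κ B X) (g : N →ₗ[B] K) (hg : Function.Surjective g) :
    Function.Surjective (compL X g) := fun φ =>
  ⟨b.constr ℕ fun i => Function.surjInv hg (φ (b i)), b.ext fun i => by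
    rw [compL, LinearMap.llcomp_apply, Module.Basis.constr_basis, Function.surjInv_eq hg]⟩

/-- The long exact sequence of a short exact sequence of coefficient modules. -/
theorem les (f : M →ₗ[B] N) (g : N →ₗ[B] K) (hf : Function.Injective f) (hg : Function.Surjective g)
    (hfg : Function.Exact f g) :
    Function.Injective (T0map P f) ∧ Function.Exact (T0map P f) (T0map P g) ∧
      Function.Exact (T1map P f) (T1map P g) ∧ Function.Exact (T2map P f) (T2map P g) ∧
      ∃ (δ₀ : T0 P K →ₗ[B] T1 P M) (δ₁ : T1 P K →ₗ[B] T2 P M),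
        Function.Exact (T0map P g) δ₀ ∧ Function.Exact δ₀ (T1map P f) ∧
        Function.Exact (T1map P g) δ₁ ∧ Function.Exact δ₁ (T2map P f) := by
  obtain ⟨hi, h0, h1, h2, δ0, δ1, a, b, c, d⟩ := nine_term (cxMap P f) (cxMap P g)
    (fun x y h => ULift.ext _ _ (llcomp_injective f hf (congrArg ULift.down h)))
    (llcomp_injective f hf) (llcomp_injective f hf)
    (exact_ulift.{t} (llcomp_exact f g hf hfg)) (llcomp_exact f g hf hfg) (llcomp_exact f g hf hfg)
    (fun y => by
      obtain ⟨x, hx⟩ := llcomp_surjective P.cotangentSpaceBasis g hg y.down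
      exact ⟨ULift.up x, ULift.ext _ _ hx⟩)
    (llcomp_surjective (L1basis P) g hg)
  refine ⟨fun x y h => congrArg ULift.down (hi (a₁ := ULift.up x) (a₂ := ULift.up y) (ULift.ext _ _ h)),
    exact_of_ulift.{t} h0, h1, h2, δ0 ∘ₗ ULift.moduleEquiv.symm.toLinearMap, δ1, ?_, ?_, c, d⟩
  · intro y
    constructor
    · intro hy
      obtain ⟨x, hx⟩ := (a (ULift.up y)).1 hy
      exact ⟨x.down, congrArg ULift.down hx⟩
    · rintro ⟨x, rfl⟩
      exact (a _).2 ⟨ULift.up x, rfl⟩
  · intro y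
    constructor
    · intro hy
      obtain ⟨x, hx⟩ := (b y).1 hy
      exact ⟨x.down, hx⟩
    · rintro ⟨x, rfl⟩
      exact (b _).2 ⟨ULift.up x, rfl⟩

end Groth.Agent.CotTLib
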