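import Groth.Agent.CotTLib.Vanish
import Groth.Agent.CotTLib.Smooth

/-!
# `T²` of a localization vanishes
-/

universe u v

open TensorProduct

noncomputable section

namespace Groth.Agent.CotTLib

open _root_.CotT

/-- Relations of a family are trivial if, one element at a time, each is a non zero divisor modulo the
others. -/
theorem mem_koszul_of_forall_nzd {S : Type u} [CommRing S] {σ : Type v} (f : σ → S)
    (h : ∀ (s : Finset σ) (a : σ), a ∉ s → ∀ g, g * f a ∈ Ideal.span (f '' (s : Set σ)) →
      g ∈ Ideal.span (f '' (s : Set σ)))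
    (c : σ →₀ S) (hc : jf f c = 0) : c ∈ koszul f := by
  classical
  suffices ∀ (s : Finset σ) (c : σ →₀ S), c.support ⊆ s → jf f c = 0 → c ∈ koszul f from
    this _ c subset_rfl hc
  intro s
  induction s using Finset.induction with
  | empty =>
    intro c hs _
    rw [Finsupp.support_eq_empty.1 (Finset.subset_empty.1 hs)]
    exact Submodule.zero_mem _
  | insert a s has ih =>
    intro c hs hc
    have hmem : c a * f a ∈ Ideal.span (f '' (s : Set σ)) := by
      have h1 : c.erase a ∈ Finsupp.supported S S (s : Set σ) := by
        rw [Finsupp.mem_supported, Finsupp.support_erase]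
        intro x hx
        simp only [Finset.coe_erase, Set.mem_diff, Set.mem_singleton_iff, Finset.mem_coe] at hx
        exact (Finset.mem_insert.1 (hs hx.1)).resolve_left hx.2
      have h2 : jf f (c.erase a) = -(c a * f a) := by
        rw [eq_neg_iff_add_eq_zero]
        conv_rhs => rw [← hc, ← Finsupp.erase_add_single a c, map_add, Finsupp.linearCombination_single]
        rfl
      rw [← neg_mem_iff, ← h2]
      exact (Finsupp.mem_span_image_iff_linearCombination S).2 ⟨_, h1, rfl⟩
    obtain ⟨e, he, hee⟩ := (Finsupp.mem_span_image_iff_linearCombination S).1 (h s a has _ hmem)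
    let δ : σ →₀ S := Finsupp.single a 1
    let c' : σ →₀ S := c - (jf f e • δ - jf f δ • e)
    have hea : e a = 0 := Finsupp.notMem_support_iff.1 fun hh => has ((Finsupp.mem_supported S e).1 he hh)
    have hsupp : c'.support ⊆ s := by
      intro x hx
      by_contra hxs
      apply Finsupp.mem_support_iff.1 hx
      have hex : e x = 0 := Finsupp.notMem_support_iff.1 fun hh => hxs ((Finsupp.mem_supported S e).1 he hh)
      rcases eq_or_ne x a with rfl | hxa
      · simp only [c', δ, Finsupp.sub_apply, Finsupp.smul_apply, smul_eq_mul, hea, show jf f e = c x from hee,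
          Finsupp.single_eq_same, mul_one, mul_zero, sub_zero, sub_self]
      · have hcx : c x = 0 := Finsupp.notMem_support_iff.1 fun hh =>
          hxs ((Finset.mem_insert.1 (hs hh)).resolve_left hxa)
        simp [c', δ, hex, hcx, Finsupp.single_eq_of_ne hxa]
    have hc' : jf f c' = 0 := by
      rw [map_sub, hc, zero_sub, neg_eq_zero]
      exact koszul_le_ker f (mem_koszul_of_gen f e δ)
    have := Submodule.add_mem _ (ih c' hsupp hc') (mem_koszul_of_gen f e δ)
    rwa [sub_add_cancel] at this

variable {B L : Type u} [CommRing B] [CommRing L] [Algebra B L] (M : Submonoid B) [IsLocalization M L]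

/-- The generators `1/m` of a localization. -/
abbrev locVal (m : M) : L := IsLocalization.mk' L 1 m

/-- The relation `m x_m - 1`. -/
abbrev locRel (m : M) : MvPolynomial M B := MvPolynomial.C (m : B) * MvPolynomial.X m - 1

lemma aeval_locVal_surjective : Function.Surjective (MvPolynomial.aeval (R := B) (locVal (L := L) M)) := fun z => by
  obtain ⟨b, m, rfl⟩ := IsLocalization.exists_mk'_eq M z
  exact ⟨MvPolynomial.C b * MvPolynomial.X m, by
    rw [map_mul, MvPolynomial.aeval_C, MvPolynomial.aeval_X, ← IsLocalization.mk'_eq_mul_mk'_one]⟩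

lemma exists_C_mul_sub_mem (p : MvPolynomial M B) :
    ∃ (t : M) (c : B), MvPolynomial.C (t : B) * p - MvPolynomial.C c ∈ Ideal.span (Set.range (locRel M)) := by
  induction p using MvPolynomial.induction_on with
  | C a => exact ⟨1, a, by simp⟩
  | add p q hp hq =>
    obtain ⟨t, c, h⟩ := hp
    obtain ⟨t', c', h'⟩ := hq
    refine ⟨t * t', (t' : B) * c + (t : B) * c', ?_⟩
    rw [show MvPolynomial.C ((t * t' : M) : B) * (p + q) - MvPolynomial.C ((t' : B) * c + (t : B) * c') =
      MvPolynomial.C (t' : B) * (MvPolynomial.C (t : B) * p - MvPolynomial.C c) +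
      MvPolynomial.C (t : B) * (MvPolynomial.C (t' : B) * q - MvPolynomial.C c') by
        simp only [Submonoid.coe_mul, map_mul, map_add]; ring]
    exact add_mem (Ideal.mul_mem_left _ _ h) (Ideal.mul_mem_left _ _ h')
  | mul_X p i hp =>
    obtain ⟨t, c, h⟩ := hp
    refine ⟨t * i, c, ?_⟩
    rw [show MvPolynomial.C ((t * i : M) : B) * (p * MvPolynomial.X i) - MvPolynomial.C c =
      (MvPolynomial.C (i : B) * MvPolynomial.X i) * (MvPolynomial.C (t : B) * p - MvPolynomial.C c) +
      MvPolynomial.C c * locRel M i by
        simp only [Submonoid.coe_mul, map_mul, locRel]; ring]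
    exact add_mem (Ideal.mul_mem_left _ _ h) (Ideal.mul_mem_left _ _ (Ideal.subset_span ⟨i, rfl⟩))

variable (L) in
lemma span_locRel :
    Ideal.span (Set.range (locRel M)) = RingHom.ker (MvPolynomial.aeval (R := B) (locVal (L := L) M)) := by
  refine le_antisymm (Ideal.span_le.2 ?_) fun p hp => ?_
  · rintro _ ⟨m, rfl⟩
    simp [IsLocalization.mul_mk'_eq_mk'_of_mul, IsLocalization.mk'_self']
  · obtain ⟨t, c, h⟩ := exists_C_mul_sub_mem M p
    have hle : Ideal.span (Set.range (locRel M)) ≤ RingHom.ker (MvPolynomial.aeval (R := B) (locVal (L := L) M)) := by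
      rw [Ideal.span_le]
      rintro _ ⟨m, rfl⟩
      simp [IsLocalization.mul_mk'_eq_mk'_of_mul, IsLocalization.mk'_self']
    have hc : algebraMap B L c = 0 := by
      have := hle h
      rw [RingHom.mem_ker, map_sub, map_mul, RingHom.mem_ker.1 hp, mul_zero, zero_sub, neg_eq_zero,
        MvPolynomial.aeval_C] at this
      exact this
    obtain ⟨t', ht'⟩ := (IsLocalization.map_eq_zero_iff M L c).1 hc
    let u : M := t' * t
    have h2 : MvPolynomial.C (u : B) * p ∈ Ideal.span (Set.range (locRel M)) := by
      rw [show MvPolynomial.C (u : B) * p =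
        MvPolynomial.C (t' : B) * (MvPolynomial.C (t : B) * p - MvPolynomial.C c) by
          rw [mul_sub, ← map_mul MvPolynomial.C (t' : B) c, ht', map_zero, sub_zero, ← mul_assoc, ← map_mul]
          rfl]
      exact Ideal.mul_mem_left _ _ h
    rw [show p = MvPolynomial.X u * (MvPolynomial.C (u : B) * p) - p * locRel M u by simp only [locRel]; ring]
    exact sub_mem (Ideal.mul_mem_left _ _ h2) (Ideal.mul_mem_left _ _ (Ideal.subset_span ⟨u, rfl⟩))

lemma locRel_nzd (s : Finset M) (a : M) (ha : a ∉ s) (g : MvPolynomial M B)
    (hg : g * locRel M a ∈ Ideal.span (locRel M '' (s : Set M))) : g ∈ Ideal.span (locRel M '' (s : Set M)) := by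
  classical
  let J := Ideal.span (locRel M '' (s : Set M))
  let θ : MvPolynomial M B →+* Polynomial (MvPolynomial M B ⧸ J) :=
    MvPolynomial.eval₂Hom (Polynomial.C.comp ((Ideal.Quotient.mk J).comp MvPolynomial.C))
      fun m => if m = a then Polynomial.X else Polynomial.C (Ideal.Quotient.mk J (MvPolynomial.X m))
  have hθC : ∀ b, θ (MvPolynomial.C b) = Polynomial.C (Ideal.Quotient.mk J (MvPolynomial.C b)) :=
    fun b => MvPolynomial.eval₂_C _ _ _
  have hθX : ∀ m, θ (MvPolynomial.X m) =
      if m = a then Polynomial.X else Polynomial.C (Ideal.Quotient.mk J (MvPolynomial.X m)) :=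
    fun m => MvPolynomial.eval₂_X _ _ _
  have hev : (Polynomial.evalRingHom (Ideal.Quotient.mk J (MvPolynomial.X a))).comp θ = Ideal.Quotient.mk J := by
    refine MvPolynomial.ringHom_ext (fun b => by simp [θ]) fun m => ?_
    rcases eq_or_ne m a with rfl | hm
    · simp [θ]
    · simp [θ, hm]
  have hJ : J ≤ RingHom.ker θ := by
    rw [Ideal.span_le]
    rintro _ ⟨m, hm, rfl⟩
    have hma : m ≠ a := fun h => ha (h ▸ hm)
    rw [SetLike.mem_coe, RingHom.mem_ker, show θ (locRel M m) =
      Polynomial.C (Ideal.Quotient.mk J (locRel M m)) by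
        rw [locRel, map_sub, map_mul, hθC, hθX, if_neg hma, map_one, map_sub, map_mul, map_sub, map_mul,
          map_one, map_one],
      (Ideal.Quotient.eq_zero_iff_mem (I := J)).2 (Ideal.subset_span ⟨m, hm, rfl⟩), map_zero]
  have h0 := hJ hg
  rw [RingHom.mem_ker, map_mul, show θ (locRel M a) =
    Polynomial.C (Ideal.Quotient.mk J (MvPolynomial.C (a : B))) * Polynomial.X - 1 by
      rw [locRel, map_sub, map_mul, hθC, hθX, if_pos rfl, map_one],
    mul_sub, mul_one, sub_eq_zero] at h0
  have hcoeff : ∀ n, (θ g).coeff n = 0 := by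
    intro n
    induction n with
    | zero => rw [← h0, ← mul_assoc, Polynomial.coeff_mul_X_zero]
    | succ n ih => rw [← h0, ← mul_assoc, Polynomial.coeff_mul_X, Polynomial.coeff_mul_C, ih, zero_mul]
  rw [← Ideal.Quotient.eq_zero_iff_mem, ← hev, RingHom.comp_apply, show θ g = 0 from Polynomial.ext hcoeff, map_zero]

include M in
/-- `T²` of a localization vanishes. -/
theorem subsingleton_T2_localization (N : Type u) [AddCommGroup N] [Module L N] :
    Subsingleton (T2 (canon B L) N) := by
  let G := Algebra.Generators.ofSurjective _ (aeval_locVal_surjective (L := L) M)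
  let P : Algebra.Presentation B L M M :=
    { toGenerators := G
      relation := locRel M
      span_range_relation_eq_ker := by
        rw [Algebra.Generators.ker_eq_ker_aeval_val]
        exact span_locRel L M }
  have := subsingleton_T2_of_trivial P N fun q =>
    (mem_trivRel_iff_koszul P _).2 (mem_koszul_of_forall_nzd (locRel M) (locRel_nzd M) _ q.2)
  exact (T2equiv (canon B L) N P).toEquiv.subsingleton

section Transfer

variable (k : Type u) [CommRing k] [Algebra k B] [Algebra k L] [IsScalarTower k B L]

include M in
/-- `T²(L/k) = 0` if `T²(B/k) = 0`, for a localization `L` of `B`. -/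
theorem subsingleton_T2_of_localization
    (h : ∀ (N : Type u) [AddCommGroup N] [Module B N], Subsingleton (T2 (canon k B) N))
    (N : Type u) [AddCommGroup N] [Module L N] : Subsingleton (T2 (canon k L) N) := by
  letI : Module B N := Module.compHom N (algebraMap B L)
  haveI : IsScalarTower B L N := IsScalarTower.of_compHom B L N
  let P := canon k B
  let P' := canon B L
  obtain ⟨-, -, -, h2, -⟩ := nine_comp P P' N
  have h' := subsingleton_T2_localization (L := L) M N
  have := h N
  have hz : Subsingleton (T2 (compP P P') N) := by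
    refine ⟨fun x y => ?_⟩
    have hx : ∀ x : T2 (compP P P') N, x = 0 := fun x => by
      obtain ⟨w, rfl⟩ := (h2 x).1 (Subsingleton.elim _ _)
      rw [Subsingleton.elim w 0, map_zero]
    rw [hx x, hx y]
  exact (T2equiv (canon k L) N (compP P P')).toEquiv.subsingleton

end Transfer

/-- `T²` of the local ring of a smooth point vanishes. -/
theorem subsingleton_T2_atPrime (k B : Type u) [Field k] [CommRing B] [Algebra k B] [Algebra.FiniteType k B]
    (m : Ideal B) [m.IsPrime] (f : B) (hf : f ∉ m) [Algebra.Smooth k (Localization.Away f)]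
    (N : Type u) [AddCommGroup N] [Module (Localization.AtPrime m) N] :
    Subsingleton (T2 (canon k (Localization.AtPrime m)) N) := by
  let Bf := Localization.Away f
  let L := Localization.AtPrime m
  let φ : Bf →+* L := IsLocalization.Away.lift f (g := algebraMap B L)
    (IsLocalization.map_units L (⟨f, hf⟩ : m.primeCompl))
  letI : Algebra Bf L := φ.toAlgebra
  haveI : IsScalarTower B Bf L := IsScalarTower.of_algebraMap_eq fun b => (IsLocalization.Away.lift_eq f _ b).symm
  haveI : IsScalarTower k Bf L := IsScalarTower.of_algebraMap_eq fun a => by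
    rw [IsScalarTower.algebraMap_apply k B Bf, ← IsScalarTower.algebraMap_apply B Bf L,
      ← IsScalarTower.algebraMap_apply k B L]
  haveI : Algebra.FiniteType B Bf := IsLocalization.finiteType_of_monoid_fg (Submonoid.powers f) Bf
  haveI : Algebra.FiniteType k Bf := Algebra.FiniteType.trans ‹Algebra.FiniteType k B› this
  haveI : IsLocalization (m.primeCompl.map (algebraMap B Bf)) L :=
    IsLocalization.isLocalization_of_submonoid_le Bf L (Submonoid.powers f) m.primeCompl
      (Submonoid.powers_le.2 hf)
  exact subsingleton_T2_of_localization (L := L) (m.primeCompl.map (algebraMap B Bf)) k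
    (fun N' _ _ => subsingleton_T2_of_smooth N') N

end Groth.Agent.CotTLib
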