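import Groth.Agent.CotTLib.Composite

/-!
# The nine-term sequence of `A → B → C`
-/

universe u

open TensorProduct

noncomputable section

namespace Groth.Agent.CotTLib

open _root_.CotT

section Cls

variable {A B ι σ : Type*} [CommRing A] [CommRing B] [Algebra A B] (P : Algebra.Presentation A B ι σ)

/-- A relation whose class in `L₂` vanishes is trivial. -/
lemma mem_trivRel_of_cls_eq_zero {q : relKer P} (h : cls P q = 0) : (q : relMod P) ∈ trivRel P := by
  let σ' := Function.surjInv P.toExtension.algebraMap_surjective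
  have hσ : ∀ b, algebraMap P.toExtension.Ring B (σ' b) = b := Function.surjInv_eq _
  have kill : ∀ (x y : P.toExtension.Ring), algebraMap P.toExtension.Ring B x = algebraMap _ B y →
      ∀ k : relKer P, x • mkG P (k : relMod P) = y • mkG P (k : relMod P) := fun x y hxy k => by
    rw [← sub_eq_zero, ← sub_smul]
    obtain ⟨a, ha⟩ := exists_jmap_eq P (x := x - y) (by rw [map_sub, hxy, sub_self])
    rw [← ha, ← jG_mk, jG_smul_comm, jG_mk, show jmap P (k : relMod P) = 0 from k.2, zero_smul]
  let Λ : B ⊗[P.toExtension.Ring] relKer P →+ GMod P :=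
    TensorProduct.liftAddHom
      { toFun := fun b => ((LinearMap.lsmul P.toExtension.Ring _ (σ' b)).comp
          ((mkG P).comp (relKer P).subtype)).toAddMonoidHom
        map_zero' := AddMonoidHom.ext fun k => (kill (σ' 0) 0 (by rw [hσ, map_zero]) k).trans (zero_smul _ _)
        map_add' := fun b c => AddMonoidHom.ext fun k =>
          (kill (σ' (b + c)) (σ' b + σ' c) (by rw [map_add, hσ, hσ, hσ]) k).trans (add_smul _ _ _) }
      (fun r b k => by
        change σ' (r • b) • mkG P (k : relMod P) = σ' b • mkG P ((r • k : relKer P) : relMod P)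
        rw [Submodule.coe_smul, map_smul, smul_smul]
        exact kill _ _ (by rw [map_mul, hσ, hσ, Algebra.smul_def, mul_comm]) _)
  have hΛ : ∀ k : relKer P, Λ ((1 : B) ⊗ₜ k) = mkG P (k : relMod P) := fun k =>
    (kill (σ' 1) 1 (by rw [hσ, map_one]) k).trans (one_smul _ _)
  rw [cls_apply, Submodule.Quotient.mk_eq_zero] at h
  obtain ⟨w, hw⟩ := h
  have hzero : ∀ w : B ⊗[P.toExtension.Ring] trivRelKer P, Λ ((trivRelKer P).subtype.baseChange B w) = 0 := by
    intro w
    induction w using TensorProduct.induction_on with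
    | zero => rw [map_zero, map_zero]
    | add x y hx hy => rw [map_add, map_add, hx, hy, add_zero]
    | tmul b k =>
      change σ' b • mkG P ((k : relKer P) : relMod P) = 0
      rw [show mkG P ((k : relKer P) : relMod P) = 0 from (Submodule.Quotient.mk_eq_zero _).2 k.2, smul_zero]
  have := hzero w
  rw [hw, hΛ] at this
  exact (Submodule.Quotient.mk_eq_zero _).1 this

end Cls

section Square

variable {A B A' B' ι σ ι' σ' : Type u}
variable [CommRing A] [CommRing B] [Algebra A B] [CommRing A'] [CommRing B'] [Algebra A' B']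
variable [Algebra A A'] [Algebra B B'] [Algebra A B'] [IsScalarTower A A' B'] [IsScalarTower A B B']
variable {P : Algebra.Presentation A B ι σ} {P' : Algebra.Presentation A' B' ι' σ'} (h : PresHom P P')
variable (M : Type u) [AddCommGroup M] [Module B' M] [Module B M] [IsScalarTower B B' M]
variable (B₀ : Type u) [CommRing B₀] [Algebra B₀ B] [Algebra B₀ B'] [Module B₀ M]
variable [IsScalarTower B₀ B M] [IsScalarTower B₀ B' M]

/-- The morphism of dual complexes induced by a morphism of presentations. -/
def cxPull : CxHom (cxOf P' M B₀) (cxOf P M B₀) where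
  f0 := uliftMap.{u} ((h.pull0 M).restrictScalars B₀)
  f1 := (h.pull1 M).restrictScalars B₀
  f2 := (h.pull2 M).restrictScalars B₀
  fz := (h.cocycles1Pull M).restrictScalars B₀
  t0 := uliftMap.{u} ((h.T0pull M).restrictScalars B₀)
  t1 := (h.T1pull M).restrictScalars B₀
  t2 := (h.T2pull M).restrictScalars B₀
  comm1 ψ := h.pull1_d1Star M ψ.down
  comm2 ψ := h.pull2_d2Star M ψ
  comm_i0 _ := rfl
  comm_z1 _ := rfl
  comm_p1 _ := rfl
  comm_p2 _ := rfl

end Square

variable {A B C ι σ ι' σ' : Type u}
variable [CommRing A] [CommRing B] [CommRing C] [Algebra A B] [Algebra B C] [Algebra A C] [IsScalarTower A B C]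
variable (P : Algebra.Presentation A B ι σ) (P' : Algebra.Presentation B C ι' σ')
variable (M : Type u) [AddCommGroup M] [Module C M] [Module B M] [IsScalarTower B C M]

lemma L0map_out_inl (i : ι') :
    (outHom P P').L0map ((compP P P').cotangentSpaceBasis (Sum.inl i)) = P'.cotangentSpaceBasis i := by
  rw [L0map_basis, Algebra.Generators.cotangentSpaceBasis_apply]
  congr 2
  exact MvPolynomial.aeval_X (R := A) (S₁ := MvPolynomial ι' B) _ _

lemma L0map_out_inr (i : ι) :
    (outHom P P').L0map ((compP P P').cotangentSpaceBasis (Sum.inr i)) = 0 := by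
  rw [L0map_basis, show (outHom P P').ringHom (Xv (compP P P') (Sum.inr i)) = algebraMap B P'.toExtension.Ring (P.val i)
    from MvPolynomial.aeval_X (R := A) (S₁ := MvPolynomial ι' B) _ _, Derivation.map_algebraMap,
    TensorProduct.tmul_zero]

lemma L0map_in (i : ι) :
    (inHom P P').L0map (P.cotangentSpaceBasis i) = (compP P P').cotangentSpaceBasis (Sum.inr i) := by
  rw [L0map_basis, Algebra.Generators.cotangentSpaceBasis_apply]
  congr 2
  exact MvPolynomial.aeval_X (R := A) (S₁ := MvPolynomial (ι' ⊕ ι) A) _ _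

lemma L1map_out_inl (s : σ') : (outHom P P').L1map (L1basis (compP P P') (Sum.inl s)) = L1basis P' s := by
  rw [L1map_basis, L1basis_apply]
  rfl

lemma L1map_out_inr (s : σ) : (outHom P P').L1map (L1basis (compP P P') (Sum.inr s)) = 0 := by
  rw [L1map_basis]
  exact TensorProduct.tmul_zero _ _

lemma L1map_in (s : σ) : (inHom P P').L1map (L1basis P s) = L1basis (compP P P') (Sum.inr s) := by
  rw [L1map_basis, L1basis_apply]
  rfl

section General

variable {κ κ' X X' Y : Type u} [AddCommGroup X] [Module C X] [AddCommGroup X'] [Module C X']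
variable [AddCommGroup Y] [Module B Y] [Algebra C C]

lemma split_row (b : Module.Basis (κ' ⊕ κ) C X) (b' : Module.Basis κ' C X') (b'' : Module.Basis κ B Y)
    (F : (X' →ₗ[C] M) → (X →ₗ[C] M)) (G : (X →ₗ[C] M) → (Y →ₗ[B] M))
    (hl : ∀ ψ i, F ψ (b (Sum.inl i)) = ψ (b' i)) (hr : ∀ ψ i, F ψ (b (Sum.inr i)) = 0)
    (hG : ∀ ψ i, G ψ (b'' i) = ψ (b (Sum.inr i))) :
    Function.Injective F ∧ Function.Exact F G ∧ Function.Surjective G := by
  refine ⟨fun x y h => b'.ext fun i => by rw [← hl, h, hl], fun ψ => ⟨fun h => ?_, ?_⟩, fun φ => ?_⟩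
  · refine ⟨b'.constr ℕ fun i => ψ (b (Sum.inl i)), b.ext fun i => ?_⟩
    cases i with
    | inl i => rw [hl, Module.Basis.constr_basis]
    | inr i => rw [hr, ← hG, h, LinearMap.zero_apply]
  · rintro ⟨χ, rfl⟩
    exact b''.ext fun i => by rw [hG, hr, LinearMap.zero_apply]
  · exact ⟨b.constr ℕ (Sum.elim (fun _ => 0) fun i => φ (b'' i)), b''.ext fun i => by
      rw [hG, Module.Basis.constr_basis]; rfl⟩

end General

lemma row0 : Function.Injective ((outHom P P').pull0 M) ∧
    Function.Exact ((outHom P P').pull0 M) ((inHom P P').pull0 M) ∧ Function.Surjective ((inHom P P').pull0 M) :=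
  split_row M (compP P P').cotangentSpaceBasis P'.cotangentSpaceBasis P.cotangentSpaceBasis _ _
    (fun ψ i => congrArg ψ (L0map_out_inl P P' i))
    (fun ψ i => (congrArg ψ (L0map_out_inr P P' i)).trans (map_zero ψ))
    (fun ψ i => congrArg ψ (L0map_in P P' i))

lemma row1 : Function.Injective ((outHom P P').pull1 M) ∧
    Function.Exact ((outHom P P').pull1 M) ((inHom P P').pull1 M) ∧ Function.Surjective ((inHom P P').pull1 M) :=
  split_row M (L1basis (compP P P')) (L1basis P') (L1basis P) _ _
    (fun ψ i => congrArg ψ (L1map_out_inl P P' i))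
    (fun ψ i => (congrArg ψ (L1map_out_inr P P' i)).trans (map_zero ψ))
    (fun ψ i => congrArg ψ (L1map_in P P' i))

lemma L2map_cls {A₁ B₁ A₂ B₂ ι₁ σ₁ ι₂ σ₂ : Type u} [CommRing A₁] [CommRing B₁] [Algebra A₁ B₁] [CommRing A₂]
    [CommRing B₂] [Algebra A₂ B₂] [Algebra A₁ A₂] [Algebra B₁ B₂] [Algebra A₁ B₂] [IsScalarTower A₁ A₂ B₂]
    [IsScalarTower A₁ B₁ B₂] {P₁ : Algebra.Presentation A₁ B₁ ι₁ σ₁} {P₂ : Algebra.Presentation A₂ B₂ ι₂ σ₂}
    (g : PresHom P₁ P₂) (q : relKer P₁) : g.L2map (cls P₁ q) = cls P₂ (g.relKerMap q) := by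
  rw [cls_apply, PresHom.L2map_mk_tmul, map_one]
  rfl

lemma L2map_out_surjective : Function.Surjective (outHom P P').L2map := fun z => by
  obtain ⟨q', rfl⟩ := cls_surjective P' z
  obtain ⟨q, rfl⟩ := relKerMap_out_surjective P P' q'
  exact ⟨cls (compP P P') q, L2map_cls _ q⟩

lemma row2 : Function.Injective ((outHom P P').pull2 M) ∧
    Function.Exact ((outHom P P').pull2 M) ((inHom P P').pull2 M) := by
  refine ⟨fun x y h => LinearMap.ext fun z => ?_, fun ψ => ⟨fun h => ?_, ?_⟩⟩
  · obtain ⟨w, rfl⟩ := L2map_out_surjective P P' z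
    exact LinearMap.congr_fun h w
  · have hker : ∀ z, (outHom P P').L2map z = 0 → ψ z = 0 := fun z hz => by
      obtain ⟨q, rfl⟩ := cls_surjective (compP P P') z
      have hq : (outHom P P').relModMap q ∈ trivRel P' := by
        rw [L2map_cls, cls_apply, Submodule.Quotient.mk_eq_zero] at hz
        obtain ⟨w, hw⟩ := hz
        -- the class of a relation vanishes iff it is a trivial relation
        exact mem_trivRel_of_cls_eq_zero P' (q := (outHom P P').relKerMap q) (by
          rw [cls_apply, Submodule.Quotient.mk_eq_zero]; exact ⟨w, hw⟩)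
      obtain ⟨q₀, hq₀, hsub⟩ := exists_inSpan P P' q hq
      rw [cls_eq _ hsub]
      clear hsub hq hz
      induction hq₀ using Submodule.span_induction with
      | mem x hx =>
        obtain ⟨p, rfl⟩ := hx
        rw [← L2map_cls (inHom P P') p]
        exact LinearMap.congr_fun h (cls P p)
      | zero => rw [map_zero, map_zero]
      | add x y _ _ hx hy => rw [map_add, map_add, hx, hy, add_zero]
      | smul r x _ hx =>
        rw [map_smul, ← algebraMap_smul (R := (compP P P').toExtension.Ring) C, map_smul, hx, smul_zero]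
    have hsurj := L2map_out_surjective P P'
    have hsec := fun y z (hz : (outHom P P').L2map z = y) =>
      show ψ (Function.surjInv hsurj y) = ψ z from
        sub_eq_zero.1 (by rw [← map_sub]; exact hker _ (by rw [map_sub, Function.surjInv_eq hsurj, hz, sub_self]))
    refine ⟨{ toFun := fun y => ψ (Function.surjInv hsurj y)
              map_add' := fun x y => ?_
              map_smul' := fun c x => ?_ }, LinearMap.ext fun z => hsec _ z rfl⟩
    · rw [← map_add]
      exact hsec _ _ (by rw [map_add, Function.surjInv_eq hsurj, Function.surjInv_eq hsurj])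
    · rw [RingHom.id_apply, ← map_smul]
      exact hsec _ _ (by rw [LinearMap.map_smulₛₗ, Function.surjInv_eq hsurj, Algebra.algebraMap_self, RingHom.id_apply])
  · rintro ⟨χ, rfl⟩
    refine linearMap_ext_L2 P fun p => ?_
    rw [PresHom.pull2_apply, PresHom.pull2_apply, L2map_cls, L2map_cls, LinearMap.zero_apply]
    have : (outHom P P').relKerMap ((inHom P P').relKerMap p) = 0 := Subtype.ext (by
      rw [PresHom.relKerMap_coe, PresHom.relKerMap_coe, relModMap_in, out_eR]; rfl)
    rw [this, map_zero, map_zero]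

/-- The nine-term sequence for a composite presentation. -/
theorem nine_comp :
    Function.Injective ((outHom P P').T0pull M) ∧
    Function.Exact ((outHom P P').T0pull M) ((inHom P P').T0pull M) ∧
    Function.Exact ((outHom P P').T1pull M) ((inHom P P').T1pull M) ∧
    Function.Exact ((outHom P P').T2pull M) ((inHom P P').T2pull M) ∧
    ∃ (δ₀ : T0 P M →+ T1 P' M) (δ₁ : T1 P M →+ T2 P' M),
      Function.Exact ((inHom P P').T0pull M) δ₀ ∧ Function.Exact δ₀ ((outHom P P').T1pull M) ∧
      Function.Exact ((inHom P P').T1pull M) δ₁ ∧ Function.Exact δ₁ ((outHom P P').T2pull M) := by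
  obtain ⟨hi, h0, h1, h2, δ0, δ1, a, b, c, d⟩ := nine_term (cxPull (outHom P P') M B) (cxPull (inHom P P') M B)
    (fun x y h => ULift.ext _ _ ((row0 P P' M).1 (congrArg ULift.down h)))
    (row1 P P' M).1 (row2 P P' M).1
    (exact_ulift.{u} (f := ((outHom P P').pull0 M).restrictScalars B) (g := ((inHom P P').pull0 M).restrictScalars B)
      (row0 P P' M).2.1)
    (row1 P P' M).2.1 (row2 P P' M).2
    (fun y => by
      obtain ⟨x, hx⟩ := (row0 P P' M).2.2 y.down
      exact ⟨ULift.up x, ULift.ext _ _ hx⟩)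
    (row1 P P' M).2.2
  refine ⟨fun x y h => congrArg ULift.down (hi (a₁ := ULift.up x) (a₂ := ULift.up y) (ULift.ext _ _ h)),
    exact_of_ulift.{u} (f := ((outHom P P').T0pull M).restrictScalars B)
      (g := ((inHom P P').T0pull M).restrictScalars B) h0, h1, h2,
    (δ0 ∘ₗ ULift.moduleEquiv.symm.toLinearMap).toAddMonoidHom, δ1.toAddMonoidHom, ?_, ?_, c, d⟩
  · intro y
    constructor
    · intro hy
      obtain ⟨x, hx⟩ := (a (ULift.up y)).1 hy
      exact ⟨x.down, congrArg ULift.down hx⟩
    · rintro ⟨x, rfl⟩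
      exact (a _).2 ⟨ULift.up x, rfl⟩
  · intro y
    constructor
    · intro hy
      obtain ⟨x, hx⟩ := (b y).1 hy
      exact ⟨x.down, hx⟩
    · rintro ⟨x, rfl⟩
      exact (b _).2 ⟨ULift.up x, rfl⟩

end Groth.Agent.CotTLib
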