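import Mathlib

/-!
# Smoothings of rigid algebras

If a flat one-parameter family with special fibre `B₀` has torsion deformation classes (a power of the
parameter kills the class of every square-zero extension) and `B₀` is rigid, then every square-zero
extension of `B₀` splits.
-/

universe u

open TensorProduct

noncomputable section

namespace Groth.Agent.CotTLib.Rigid

/-- An algebra homomorphism minus a derivation with square-zero values is an algebra homomorphism. -/
lemma exists_algHom_sub {k R Q : Type u} [CommRing k] [CommRing R] [CommRing Q] [Algebra k R] [Algebra k Q]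
    (h : R →ₐ[k] Q) (d : R → Q) (hadd : ∀ x y, d (x + y) = d x + d y)
    (hmul : ∀ x y, d (x * y) = h x * d y + h y * d x) (hk : ∀ c, d (algebraMap k R c) = 0)
    (hsq : ∀ x y, d x * d y = 0) : ∃ ψ : R →ₐ[k] Q, ∀ x, ψ x = h x - d x := by
  have h1 : d 1 = 0 := by simpa using hk 1
  have h0 : d 0 = 0 := by simpa using hk 0
  refine ⟨{ toFun := fun x => h x - d x
            map_one' := by rw [map_one, h1, sub_zero]
            map_mul' := fun x y => by rw [map_mul, hmul]; linear_combination (-(1 : Q)) * hsq x y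
            map_zero' := by rw [map_zero, h0, sub_zero]
            map_add' := fun x y => by rw [map_add, hadd]; ring
            commutes' := fun c => by rw [hk, sub_zero, AlgHom.commutes] }, fun x => rfl⟩

/-- An additive map on `I` killing `I²` descends to `I/I²`. -/
lemma exists_cotangent_addMonoidHom {A B : Type u} [CommRing A] [CommRing B] [Algebra A B]
    (P : Algebra.Extension.{u} A B) {M : Type u} [AddCommGroup M] (f : P.Ring →+ M)
    (hf : ∀ x ∈ P.ker ^ 2, f x = 0) :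
    ∃ fC : P.Cotangent →+ M, ∀ i : P.ker, fC (Algebra.Extension.Cotangent.mk i) = f i := by
  have key : ∀ i j : P.ker, Algebra.Extension.Cotangent.mk i = Algebra.Extension.Cotangent.mk j →
      f i = f j := fun i j h => by
    have h' : Algebra.Extension.Cotangent.mk (i - j) = 0 := by rw [map_sub, h, sub_self]
    rw [Algebra.Extension.Cotangent.mk_eq_zero_iff] at h'
    have := hf _ h'
    rwa [Submodule.coe_sub, map_sub, sub_eq_zero] at this
  choose lift hlift using Algebra.Extension.Cotangent.mk_surjective (P := P)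
  refine ⟨AddMonoidHom.mk' (fun c => f (lift c)) fun c c' => ?_, fun i => key _ _ (hlift _)⟩
  rw [← map_add, ← Submodule.coe_add]
  exact key _ _ (by rw [map_add, hlift, hlift, hlift])

/-- The deformation classes of `P` are killed by `t ^ n`: for every `A`-algebra map out of `P.Ring`
which is square-zero on the kernel, `t ^ n` times its restriction to the kernel extends to a derivation. -/
def TorsionBy {A B : Type u} [CommRing A] [CommRing B] [Algebra A B] (P : Algebra.Extension.{u} A B)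
    (t : A) (n : ℕ) : Prop :=
  ∀ (E : Type u) [CommRing E] [Algebra A E] (g : P.Ring →ₐ[A] E),
    (∀ x y : P.Ring, x ∈ P.ker → y ∈ P.ker → g x * g y = 0) →
    ∃ D : P.Ring →+ E, (∀ x y, D (x * y) = g x * D y + g y * D x) ∧
      (∀ a, D (algebraMap A P.Ring a) = 0) ∧
      (∀ x ∈ P.ker, D x = algebraMap A E t ^ n * g x) ∧
      ∀ x, ∃ y ∈ P.ker, D x = g y

theorem torsionBy_of_factor {A B : Type u} [CommRing A] [CommRing B] [Algebra A B]
    (P : Algebra.Extension.{u} A B) (t : A) (n : ℕ) (φ : P.CotangentSpace →ₗ[B] P.Cotangent)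
    (hφ : φ ∘ₗ P.cotangentComplex = algebraMap A B t ^ n • LinearMap.id) : TorsionBy P t n := by
  intro E _ _ g hg
  obtain ⟨gC, hgC⟩ := exists_cotangent_addMonoidHom P (g : P.Ring →+ E) fun x hx => by
    rw [pow_two] at hx
    induction hx using Submodule.mul_induction_on' with
    | mem_mul_mem a ha b hb =>
      change g (a * b) = 0
      rw [map_mul, hg a b ha hb]
    | add y _ z _ hy hz => rw [map_add, hy, hz, add_zero]
  have hsmul : ∀ (r : P.Ring) (c : P.Cotangent), gC (algebraMap P.Ring B r • c) = g r * gC c := by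
    intro r c
    obtain ⟨i, rfl⟩ := Algebra.Extension.Cotangent.mk_surjective c
    rw [algebraMap_smul, ← map_smul, hgC, hgC]
    exact map_mul g r i
  let D : P.Ring →+ E := gC.comp (φ.toAddMonoidHom.comp
    ((TensorProduct.mk P.Ring B (Ω[P.Ring⁄A]) 1).toAddMonoidHom.comp
      (KaehlerDifferential.D A P.Ring).toLinearMap.toAddMonoidHom))
  have hD : ∀ x, D x = gC (φ ((1 : B) ⊗ₜ KaehlerDifferential.D A P.Ring x)) := fun x => rfl
  refine ⟨D, fun x y => ?_, fun a => ?_, fun x hx => ?_, fun x => ?_⟩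
  · simp only [hD, Derivation.leibniz, TensorProduct.tmul_add, map_add, TensorProduct.tmul_smul]
    rw [← algebraMap_smul B x (_ : B ⊗[P.Ring] Ω[P.Ring⁄A]),
      ← algebraMap_smul B y (_ : B ⊗[P.Ring] Ω[P.Ring⁄A]), φ.map_smul, φ.map_smul, hsmul, hsmul]
  · rw [hD, Derivation.map_algebraMap, TensorProduct.tmul_zero, map_zero, map_zero]
  · have h1 := LinearMap.congr_fun hφ (Algebra.Extension.Cotangent.mk ⟨x, hx⟩)
    rw [LinearMap.comp_apply, Algebra.Extension.cotangentComplex_mk] at h1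
    rw [hD, h1, LinearMap.smul_apply, LinearMap.id_apply, ← map_pow,
      IsScalarTower.algebraMap_apply A P.Ring B, hsmul, hgC, map_pow, map_pow, AlgHom.commutes]
    rfl
  · obtain ⟨i, hi⟩ := Algebra.Extension.Cotangent.mk_surjective
      (φ ((1 : B) ⊗ₜ KaehlerDifferential.D A P.Ring x))
    exact ⟨i, i.2, by rw [hD, ← hi, hgC]; rfl⟩

/-- One step of lifting: if every map `I/I² → S` factors through the conormal map, a homomorphism
lifts along a square-zero surjection whose kernel is identified with `S`. -/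
theorem exists_lift_of_rigid {k S Q Q' : Type u} [CommRing k] [CommRing S] [Algebra k S]
    [CommRing Q] [Algebra k Q] [CommRing Q'] [Algebra k Q']
    (P₀ : Algebra.Extension.{u} k S) [Algebra.FormallySmooth k P₀.Ring]
    (hr : ∀ χ : P₀.Cotangent →ₗ[S] S, ∃ ψ : P₀.CotangentSpace →ₗ[S] S, ψ ∘ₗ P₀.cotangentComplex = χ)
    (q : Q →ₐ[k] Q') (hq : Function.Surjective q) (σ : S →ₐ[k] Q') (τ : S →+ Q)
    (hτinj : Function.Injective τ) (hτrange : ∀ z, q z = 0 ↔ ∃ x, τ x = z)
    (hτmul : ∀ z s x, q z = σ s → z * τ x = τ (s * x)) :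
    ∃ σ' : S →ₐ[k] Q, q.comp σ' = σ := by
  have hττ : ∀ x y, τ x * τ y = 0 := fun x y => by
    rw [hτmul (τ x) 0 y ((map_zero σ).symm ▸ (hτrange _).2 ⟨x, rfl⟩), zero_mul, map_zero]
  have hnil : IsNilpotent (RingHom.ker (q : Q →+* Q')) := ⟨2, by
    rw [pow_two, Ideal.zero_eq_bot, eq_bot_iff, Ideal.mul_le]
    intro a ha b hb
    obtain ⟨x, rfl⟩ := (hτrange a).1 ha
    obtain ⟨y, rfl⟩ := (hτrange b).1 hb
    exact hττ x y⟩
  let π : P₀.Ring →ₐ[k] S := IsScalarTower.toAlgHom k P₀.Ring S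
  let h : P₀.Ring →ₐ[k] Q := Algebra.FormallySmooth.liftOfSurjective (σ.comp π) q hq hnil
  have hh : ∀ x, q (h x) = σ (algebraMap P₀.Ring S x) := fun x =>
    Algebra.FormallySmooth.liftOfSurjective_apply _ q hq hnil x
  obtain ⟨hC, hhC⟩ := exists_cotangent_addMonoidHom P₀ (h : P₀.Ring →+ Q) fun x hx => by
    rw [pow_two] at hx
    induction hx using Submodule.mul_induction_on' with
    | mem_mul_mem a ha b hb =>
      obtain ⟨x, hx⟩ := (hτrange (h a)).1 (by rw [hh, show algebraMap P₀.Ring S a = 0 from ha, map_zero])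
      obtain ⟨y, hy⟩ := (hτrange (h b)).1 (by rw [hh, show algebraMap P₀.Ring S b = 0 from hb, map_zero])
      change h (a * b) = 0
      rw [map_mul, ← hx, ← hy, hττ]
    | add y _ z _ hy hz => rw [map_add, hy, hz, add_zero]
  have hval : ∀ c : P₀.Cotangent, ∃ x, τ x = hC c := fun c => by
    obtain ⟨i, rfl⟩ := Algebra.Extension.Cotangent.mk_surjective c
    refine (hτrange _).1 ?_
    rw [hhC]
    change q (h i) = 0
    rw [hh, show algebraMap P₀.Ring S i = 0 from i.2, map_zero]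
  choose χ₀ hχ₀ using hval
  let χ : P₀.Cotangent →ₗ[S] S :=
    { toFun := χ₀
      map_add' := fun c c' => hτinj (by rw [hχ₀, map_add, map_add, hχ₀, hχ₀])
      map_smul' := fun s c => hτinj (by
        obtain ⟨r, rfl⟩ := P₀.algebraMap_surjective s
        obtain ⟨i, rfl⟩ := Algebra.Extension.Cotangent.mk_surjective c
        rw [RingHom.id_apply, smul_eq_mul, ← hτmul (h r) _ _ (hh r), hχ₀, hχ₀, algebraMap_smul,
          ← map_smul, hhC, hhC]
        exact map_mul h r i) }
  obtain ⟨ψ, hψ⟩ := hr χ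
  let d : P₀.Ring → Q := fun x => τ (ψ ((1 : S) ⊗ₜ KaehlerDifferential.D k P₀.Ring x))
  obtain ⟨h', hh'⟩ := exists_algHom_sub h d (fun x y => by simp [d, TensorProduct.tmul_add])
    (fun x y => by
      simp only [d, Derivation.leibniz, TensorProduct.tmul_add, map_add, TensorProduct.tmul_smul]
      rw [← algebraMap_smul S x (_ : S ⊗[P₀.Ring] Ω[P₀.Ring⁄k]),
        ← algebraMap_smul S y (_ : S ⊗[P₀.Ring] Ω[P₀.Ring⁄k]), ψ.map_smul, ψ.map_smul, smul_eq_mul,
        smul_eq_mul, ← hτmul (h x) _ _ (hh x), ← hτmul (h y) _ _ (hh y)])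
    (fun c => by simp [d]) (fun x y => hττ _ _)
  have hker : ∀ x, algebraMap P₀.Ring S x = 0 → h' x = 0 := fun x hx => by
    have h1 := LinearMap.congr_fun hψ (Algebra.Extension.Cotangent.mk ⟨x, hx⟩)
    rw [LinearMap.comp_apply, Algebra.Extension.cotangentComplex_mk] at h1
    rw [hh', sub_eq_zero]
    change h x = τ (ψ _)
    rw [h1]
    exact ((hχ₀ _).trans (hhC ⟨x, hx⟩)).symm
  let σ' : S →ₐ[k] Q :=
    (Ideal.Quotient.liftₐ (RingHom.ker π) h' hker).comp
      (Ideal.quotientKerAlgEquivOfSurjective (f := π) P₀.algebraMap_surjective).symm.toAlgHom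
  refine ⟨σ', AlgHom.ext fun s => ?_⟩
  obtain ⟨x, rfl⟩ := P₀.algebraMap_surjective s
  have h1 : (Ideal.quotientKerAlgEquivOfSurjective (f := π) P₀.algebraMap_surjective).symm
      (algebraMap P₀.Ring S x) = Ideal.Quotient.mk _ x := (AlgEquiv.symm_apply_eq _).2 rfl
  change q (Ideal.Quotient.liftₐ (RingHom.ker π) h' hker
    ((Ideal.quotientKerAlgEquivOfSurjective (f := π) P₀.algebraMap_surjective).symm
      (algebraMap P₀.Ring S x))) = _
  rw [h1]
  change q (h' x) = _
  rw [hh', map_sub, show q (d x) = 0 from (hτrange _).2 ⟨_, rfl⟩, sub_zero, hh]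

variable {k A B B₀ : Type u} [Field k] [CommRing A] [Algebra k A] [CommRing B] [Algebra A B]
  [Algebra k B] [IsScalarTower k A B] [CommRing B₀] [Algebra k B₀] {t : A}

local notation "tB" => algebraMap A B t

/-- A rigid special fibre makes the family trivial to every order. -/
theorem exists_section (hreg : ∀ b : B, tB * b = 0 → b = 0)
    (e : (B ⧸ Ideal.span {tB}) ≃ₐ[k] B₀)
    (P₀ : Algebra.Extension.{u} k B₀) [Algebra.FormallySmooth k P₀.Ring]
    (hr : ∀ χ : P₀.Cotangent →ₗ[B₀] B₀, ∃ ψ : P₀.CotangentSpace →ₗ[B₀] B₀,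
      ψ ∘ₗ P₀.cotangentComplex = χ) (N : ℕ) :
    ∃ σ : B₀ →ₐ[k] B ⧸ Ideal.span {tB ^ (N + 1)},
      ∀ x b, σ x = Ideal.Quotient.mk _ b → e (Ideal.Quotient.mk _ b) = x := by
  induction N with
  | zero =>
    refine ⟨(Ideal.quotientEquivAlgOfEq k
      (show Ideal.span {tB} = Ideal.span {tB ^ (0 + 1)} by rw [zero_add, pow_one])).toAlgHom.comp
        e.symm.toAlgHom, fun x b hxb => ?_⟩
    rw [← e.apply_symm_apply x]
    congr 1
    refine (Ideal.quotientEquivAlgOfEq k
      (show Ideal.span {tB} = Ideal.span {tB ^ (0 + 1)} by rw [zero_add, pow_one])).injective ?_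
    exact hxb.symm
  | succ m ih =>
    obtain ⟨σ, hσ⟩ := ih
    let Q := B ⧸ Ideal.span {tB ^ (m + 1 + 1)}
    have hle : Ideal.span {tB ^ (m + 1 + 1)} ≤ Ideal.span {tB ^ (m + 1)} :=
      Ideal.span_singleton_le_span_singleton.2 (pow_dvd_pow _ (Nat.le_succ _))
    let q := Ideal.Quotient.factorₐ k hle
    have hpow : ∀ (j : ℕ) (b : B), tB ^ j * b = 0 → b = 0 := fun j => by
      induction j with
      | zero => exact fun b hb => by simpa using hb
      | succ j ihj => exact fun b hb => ihj b (hreg _ (by rw [← mul_assoc, ← pow_succ', hb]))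
    let τ₀ : (B ⧸ Ideal.span {tB}) →ₗ[B] Q :=
      Submodule.mapQ (Ideal.span {tB}) (Ideal.span {tB ^ (m + 1 + 1)}) (LinearMap.mulLeft B (tB ^ (m + 1)))
        (fun b hb => by
          obtain ⟨c, rfl⟩ := Ideal.mem_span_singleton'.1 hb
          exact Ideal.mem_span_singleton'.2 ⟨c, by simp [pow_succ]; ring⟩)
    have hτ₀ : ∀ b, τ₀ (Ideal.Quotient.mk _ b) = Ideal.Quotient.mk _ (tB ^ (m + 1) * b) := fun b => rfl
    let τ : B₀ →+ Q := τ₀.toAddMonoidHom.comp (e.symm : B₀ ≃+ (B ⧸ Ideal.span {tB})).toAddMonoidHom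
    have hτ : ∀ x b, e (Ideal.Quotient.mk _ b) = x → τ x = Ideal.Quotient.mk _ (tB ^ (m + 1) * b) := by
      intro x b hb
      rw [← hb]
      change τ₀ (e.symm (e _)) = _
      rw [e.symm_apply_apply, hτ₀]
    have hrep : ∀ x, ∃ b, e (Ideal.Quotient.mk _ b) = x := fun x => by
      obtain ⟨b, hb⟩ := Ideal.Quotient.mk_surjective (e.symm x)
      exact ⟨b, by rw [hb, e.apply_symm_apply]⟩
    obtain ⟨σ', hσ'⟩ := exists_lift_of_rigid P₀ hr q (Ideal.Quotient.factor_surjective hle) σ τ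
      ((injective_iff_map_eq_zero _).2 fun x hx => by
        obtain ⟨b, hb⟩ := hrep x
        rw [hτ x b hb, Ideal.Quotient.eq_zero_iff_mem, Ideal.mem_span_singleton'] at hx
        obtain ⟨c, hc⟩ := hx
        have : b - c * tB = 0 := hpow (m + 1) _ (by rw [mul_sub, ← hc, pow_succ]; ring)
        rw [← hb, Ideal.Quotient.eq_zero_iff_mem.2
          (Ideal.mem_span_singleton'.2 ⟨c, (sub_eq_zero.1 this).symm⟩), map_zero])
      (fun z => by
        obtain ⟨z, rfl⟩ := Ideal.Quotient.mk_surjective z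
        rw [show q (Ideal.Quotient.mk _ z) = Ideal.Quotient.mk _ z from rfl,
          Ideal.Quotient.eq_zero_iff_mem, Ideal.mem_span_singleton']
        constructor
        · rintro ⟨c, rfl⟩
          exact ⟨_, (hτ _ c rfl).trans (by rw [mul_comm])⟩
        · rintro ⟨x, hx⟩
          obtain ⟨b, hb⟩ := hrep x
          rw [hτ x b hb, Ideal.Quotient.eq, Ideal.mem_span_singleton'] at hx
          obtain ⟨c, hc⟩ := hx
          exact ⟨b - c * tB, by linear_combination (norm := ring) (-(1 : B)) * hc⟩)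
      (fun z s x hzs => by
        obtain ⟨z, rfl⟩ := Ideal.Quotient.mk_surjective z
        obtain ⟨b, hb⟩ := hrep x
        have hz := hσ s z hzs.symm
        rw [hτ x b hb, hτ (s * x) (z * b) (by rw [map_mul, map_mul, hz, hb]), ← map_mul,
          mul_left_comm])
    refine ⟨σ', fun x b hxb => hσ x b ?_⟩
    rw [← hσ', AlgHom.comp_apply, hxb]
    rfl

/-- The trivialised family modulo `t ^ (N + 1)`. -/
theorem rigid_splits (ht : ∀ a : A, ∃ (c : k) (a' : A), a = algebraMap k A c + t * a')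
    (ε₀ : A →ₐ[k] k) (hεt : ε₀ t = 0) {N : ℕ} (htN : t ^ N ∉ Ideal.span {t ^ (N + 1)})
    (hreg : ∀ b : B, tB * b = 0 → b = 0) (e : (B ⧸ Ideal.span {tB}) ≃ₐ[k] B₀)
    (σ : B₀ →ₐ[k] B ⧸ Ideal.span {tB ^ (N + 1)})
    (hσ : ∀ x b, σ x = Ideal.Quotient.mk _ b → e (Ideal.Quotient.mk _ b) = x)
    (P : Algebra.Extension.{u} A B) [Algebra.FormallySmooth A P.Ring] (htor : TorsionBy P t N)
    {E₀ : Type u} [CommRing E₀] [Algebra k E₀] (π₀ : E₀ →ₐ[k] B₀) (hπ₀ : Function.Surjective π₀)
    (hsq : ∀ x y, π₀ x = 0 → π₀ y = 0 → x * y = 0)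
    {ι : Type u} (val : ι → E₀) :
    ∃ ψ : MvPolynomial ι k →ₐ[k] E₀, (∀ x, π₀ (ψ x) = π₀ (MvPolynomial.aeval val x)) ∧
      ∀ x, π₀ (MvPolynomial.aeval val x) = 0 → ψ x = 0 := by
  let A' := A ⧸ Ideal.span {t ^ (N + 1)}
  let B' := B ⧸ Ideal.span {tB ^ (N + 1)}
  let τ' : A' := Ideal.Quotient.mk _ t
  have hτ' : τ' ^ (N + 1) = 0 := by
    rw [← map_pow (Ideal.Quotient.mk _), Ideal.Quotient.eq_zero_iff_mem]
    exact Ideal.mem_span_singleton_self _
  let fA : A' →ₐ[A] B' := Ideal.Quotient.liftₐ _ (Algebra.ofId A B') fun a ha => by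
    obtain ⟨c, rfl⟩ := Ideal.mem_span_singleton'.1 ha
    rw [map_mul, map_pow]
    refine mul_eq_zero_of_right _ ?_
    change (Ideal.Quotient.mk _ tB) ^ (N + 1) = 0
    rw [← map_pow (Ideal.Quotient.mk _), Ideal.Quotient.eq_zero_iff_mem]
    exact Ideal.mem_span_singleton_self _
  let Θ : A' ⊗[k] B₀ →ₐ[A] B' := Algebra.TensorProduct.lift fA σ fun x y => mul_comm _ _
  let ε : A' →ₐ[k] k := Ideal.Quotient.liftₐ _ ε₀ fun a ha => by
    obtain ⟨c, rfl⟩ := Ideal.mem_span_singleton'.1 ha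
    rw [map_mul, map_pow, hεt, zero_pow (Nat.succ_ne_zero N), mul_zero]
  have hdiv : ∀ a : A', ∃ a', a = algebraMap k A' (ε a) + τ' * a' := fun a => by
    obtain ⟨a, rfl⟩ := Ideal.Quotient.mk_surjective a
    obtain ⟨c, a', rfl⟩ := ht a
    refine ⟨Ideal.Quotient.mk _ a', ?_⟩
    have : ε (Ideal.Quotient.mk _ (algebraMap k A c + t * a')) = c := by
      change ε₀ (algebraMap k A c + t * a') = c
      simp [hεt]
    rw [this, map_add, map_mul]
    rfl
  obtain ⟨lam, hlam⟩ : ∃ lam : A' →ₗ[k] k, lam (τ' ^ N) = 1 := by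
    have hne : τ' ^ N ≠ 0 := by
      rw [← map_pow, Ne, Ideal.Quotient.eq_zero_iff_mem]
      exact htN
    obtain ⟨f, hf⟩ := not_forall.1 (mt (Module.forall_dual_apply_eq_zero_iff k (τ' ^ N)).1 hne)
    exact ⟨(f (τ' ^ N))⁻¹ • f, inv_mul_cancel₀ hf⟩
  let E := A' ⊗[k] E₀
  let T : A' ⊗[k] B₀ := τ' ⊗ₜ 1
  have hΘT : Θ T = Ideal.Quotient.mk _ tB := by
    change fA τ' * σ 1 = _
    rw [map_one, mul_one]
    rfl
  have hsplit : ∀ z : A' ⊗[k] B₀, ∃ b w, z = (1 : A') ⊗ₜ b + T * w := fun z => by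
    induction z using TensorProduct.induction_on with
    | zero => exact ⟨0, 0, by simp⟩
    | tmul a x =>
      obtain ⟨a', ha'⟩ := hdiv a
      refine ⟨ε a • x, a' ⊗ₜ x, ?_⟩
      rw [Algebra.TensorProduct.tmul_mul_tmul, one_mul, TensorProduct.tmul_smul, TensorProduct.smul_tmul',
        ← TensorProduct.add_tmul, ← Algebra.algebraMap_eq_smul_one, ← ha']
    | add z z' hz hz' =>
      obtain ⟨b, w, rfl⟩ := hz
      obtain ⟨b', w', rfl⟩ := hz'
      exact ⟨b + b', w + w', by rw [TensorProduct.tmul_add]; ring⟩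
  have hΘ1 : ∀ b, Θ ((1 : A') ⊗ₜ b) = σ b := fun b => by
    change fA 1 * σ b = _
    rw [map_one, one_mul]
  have hpow : ∀ (j : ℕ) (b : B), tB ^ j * b = 0 → b = 0 := fun j => by
    induction j with
    | zero => exact fun b hb => by simpa using hb
    | succ j ihj => exact fun b hb => ihj b (hreg _ (by rw [← mul_assoc, ← pow_succ', hb]))
  have hΘinj : ∀ z, Θ z = 0 → z = 0 := fun z hz => by
    suffices ∀ j ≤ N + 1, ∃ w, z = T ^ j * w by
      obtain ⟨w, rfl⟩ := this (N + 1) le_rfl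
      rw [Algebra.TensorProduct.tmul_pow, hτ', TensorProduct.zero_tmul, zero_mul]
    intro j hj
    induction j with
    | zero => exact ⟨z, by simp⟩
    | succ j ih =>
      obtain ⟨w, rfl⟩ := ih (Nat.le_of_succ_le hj)
      obtain ⟨b, w', rfl⟩ := hsplit w
      obtain ⟨u, hu⟩ := Ideal.Quotient.mk_surjective (Θ w')
      obtain ⟨v, hv⟩ := Ideal.Quotient.mk_surjective (σ b)
      have hb : b = 0 := by
        rw [map_mul, map_pow, hΘT, map_add, hΘ1, map_mul, hΘT, ← hu, ← hv, ← map_mul (Ideal.Quotient.mk _),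
          ← map_add (Ideal.Quotient.mk _), ← map_pow (Ideal.Quotient.mk _), ← map_mul (Ideal.Quotient.mk _), Ideal.Quotient.eq_zero_iff_mem, Ideal.mem_span_singleton'] at hz
        obtain ⟨c, hc⟩ := hz
        obtain ⟨m, hm⟩ : ∃ m, N + 1 = j + (m + 1) := ⟨N - j, by omega⟩
        have h0 : v + tB * u - c * tB ^ (m + 1) = 0 := hpow j _ (by rw [hm, pow_add] at hc; linear_combination (norm := ring) (-(1 : B)) * hc)
        have h1 : e (Ideal.Quotient.mk _ v) = b := hσ b v hv.symm
        rw [← h1, Ideal.Quotient.eq_zero_iff_mem.2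
          (Ideal.mem_span_singleton'.2 ⟨c * tB ^ m - u, by linear_combination (norm := ring) (-(1 : B)) * h0⟩),
          map_zero]
      exact ⟨w', by rw [hb, TensorProduct.tmul_zero, zero_add, ← mul_assoc, ← pow_succ]⟩
  have hΘsurj : Function.Surjective Θ := fun z => by
    suffices ∀ j, ∃ w r, z = Θ w + Ideal.Quotient.mk _ tB ^ j * r by
      obtain ⟨w, r, hr⟩ := this (N + 1)
      refine ⟨w, ?_⟩
      rw [hr, ← map_pow (Ideal.Quotient.mk _), Ideal.Quotient.eq_zero_iff_mem.2 (Ideal.mem_span_singleton_self _), zero_mul,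
        add_zero]
    intro j
    induction j with
    | zero => exact ⟨0, z, by simp⟩
    | succ j ih =>
      obtain ⟨w, r, rfl⟩ := ih
      obtain ⟨r, rfl⟩ := Ideal.Quotient.mk_surjective r
      obtain ⟨v, hv⟩ := Ideal.Quotient.mk_surjective (σ (e (Ideal.Quotient.mk _ r)))
      obtain ⟨c, hc⟩ := Ideal.mem_span_singleton'.1
        (Ideal.Quotient.eq.1 (e.injective (hσ _ v hv.symm).symm))
      refine ⟨w + T ^ j * ((1 : A') ⊗ₜ e (Ideal.Quotient.mk _ r)), Ideal.Quotient.mk _ c, ?_⟩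
      rw [map_add, map_mul, map_pow, hΘT, hΘ1, ← hv, eq_add_of_sub_eq hc.symm, map_add, map_mul]
      ring
  -- the trivial deformation of the extension `E₀`
  let m : E →ₐ[A] A' ⊗[k] B₀ := Algebra.TensorProduct.map (AlgHom.id A A') π₀
  let p : E →ₐ[A] B' := Θ.comp m
  have hp : Function.Surjective p :=
    hΘsurj.comp (Algebra.TensorProduct.map_surjective _ _ Function.surjective_id hπ₀)
  have hpker : ∀ z, p z = 0 → m z = 0 := fun z hz => hΘinj _ hz
  have hm0 : ∀ z, m z = 0 → z ∈ (RingHom.ker π₀).map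
      (Algebra.TensorProduct.includeRight : E₀ →ₐ[k] A' ⊗[k] E₀) := fun z hz => by
    rw [← Algebra.TensorProduct.lTensor_ker _ hπ₀]
    exact hz
  have hJ : RingHom.ker π₀ * RingHom.ker π₀ = ⊥ := by
    rw [eq_bot_iff, Ideal.mul_le]
    exact fun x hx y hy => Ideal.mem_bot.2 (hsq x y hx hy)
  have hpsq : ∀ x y, p x = 0 → p y = 0 → x * y = 0 := fun x y hx hy => by
    have := Ideal.mul_mem_mul (hm0 x (hpker x hx)) (hm0 y (hpker y hy))
    rwa [← Ideal.map_mul, hJ, Ideal.map_bot, Ideal.mem_bot] at this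
  have hnil : IsNilpotent (RingHom.ker (p : E →+* B')) := ⟨2, by
    rw [Submodule.pow_succ, Submodule.pow_one, Ideal.zero_eq_bot, eq_bot_iff, Ideal.mul_le]
    exact fun x hx y hy => Ideal.mem_bot.2 (hpsq x y hx hy)⟩
  let g : P.Ring →ₐ[A] E := Algebra.FormallySmooth.liftOfSurjective
    ((Ideal.Quotient.mkₐ A _).comp (IsScalarTower.toAlgHom A P.Ring B)) p hp hnil
  have hg : ∀ r, p (g r) = Ideal.Quotient.mk _ (algebraMap P.Ring B r) := fun r =>
    Algebra.FormallySmooth.liftOfSurjective_apply _ p hp hnil r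
  have hgI : ∀ r ∈ P.ker, p (g r) = 0 := fun r hr => by
    rw [hg, show algebraMap P.Ring B r = 0 from hr, map_zero]
  obtain ⟨D, hDmul, hDA, hDI, hDval⟩ := htor E g fun x y hx hy => hpsq _ _ (hgI x hx) (hgI y hy)
  let Λ : E →ₗ[k] E₀ := (TensorProduct.lid k E₀).toLinearMap ∘ₗ LinearMap.rTensor E₀ lam
  let ev : E →ₐ[k] E₀ := Algebra.TensorProduct.lift ((Algebra.ofId k E₀).comp ε) (AlgHom.id k E₀)
    fun x y => mul_comm _ _
  have hΛ : ∀ (a : A') (x : E₀), Λ (a ⊗ₜ x) = lam a • x := fun a x => rfl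
  have hev : ∀ (a : A') (x : E₀), ev (a ⊗ₜ x) = ε a • x := fun a x => by
    rw [Algebra.smul_def]; rfl
  have hΛmul : ∀ (x : E₀) z, Λ ((1 : A') ⊗ₜ x * z) = x * Λ z := fun x z => by
    induction z using TensorProduct.induction_on with
    | zero => simp
    | tmul a y => rw [Algebra.TensorProduct.tmul_mul_tmul, one_mul, hΛ, hΛ, mul_smul_comm]
    | add z z' hz hz' => rw [mul_add, map_add, hz, hz', map_add, mul_add]
  have hΛt : ∀ z, Λ (algebraMap A E t ^ N * z) = ev z := fun z => by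
    induction z using TensorProduct.induction_on with
    | zero => simp
    | tmul a x =>
      obtain ⟨a', ha'⟩ := hdiv a
      have : algebraMap A E t = τ' ⊗ₜ 1 := rfl
      rw [this, Algebra.TensorProduct.tmul_pow, one_pow, Algebra.TensorProduct.tmul_mul_tmul, one_mul,
        hΛ, hev]
      congr 1
      have h : τ' ^ N * a = ε a • τ' ^ N := by
        conv_lhs => rw [ha']
        rw [mul_add, ← mul_assoc, ← pow_succ, hτ', zero_mul, add_zero, Algebra.smul_def, mul_comm]
      rw [h, map_smul, hlam, smul_eq_mul, mul_one]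
    | add z z' hz hz' => rw [mul_add, map_add, hz, hz', map_add]
  have hΛJ : ∀ z, p z = 0 → π₀ (Λ z) = 0 := fun z hz => by
    have h : ∀ w, π₀ (Λ w) = TensorProduct.lid k B₀ (LinearMap.rTensor B₀ lam (m w)) := fun w => by
      induction w using TensorProduct.induction_on with
      | zero => simp
      | tmul a x => rw [hΛ, map_smul]; rfl
      | add w w' hw hw' => simp only [map_add, hw, hw']
    rw [h, hpker z hz, map_zero, map_zero]
  choose r₀ hr₀ using fun i => (Ideal.Quotient.mk_surjective.comp P.algebraMap_surjective)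
    (σ (π₀ (val i)))
  let ρ : MvPolynomial ι k →+* P.Ring :=
    MvPolynomial.eval₂Hom ((algebraMap A P.Ring).comp (algebraMap k A)) r₀
  let q₀ : MvPolynomial ι k →ₐ[k] E₀ := MvPolynomial.aeval val
  have hρ : ∀ x, p (g (ρ x)) = σ (π₀ (q₀ x)) := fun x => by
    induction x using MvPolynomial.induction_on with
    | C c =>
      rw [MvPolynomial.eval₂Hom_C, RingHom.comp_apply, AlgHom.commutes, AlgHom.commutes,
        ← IsScalarTower.algebraMap_apply, MvPolynomial.aeval_C, AlgHom.commutes, AlgHom.commutes]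
    | add x y hx hy => simp only [map_add, hx, hy]
    | mul_X x i hx =>
      have : p (g (r₀ i)) = σ (π₀ (val i)) := (hg _).trans (hr₀ i)
      simp only [map_mul, hx, ρ, q₀, MvPolynomial.eval₂Hom_X', MvPolynomial.aeval_X, this] at hx ⊢
  let h₀ : MvPolynomial ι k →ₐ[k] E₀ :=
    { toRingHom := (ev : E →+* E₀).comp ((g : P.Ring →+* E).comp ρ)
      commutes' := fun c => by
        change ev (g (ρ (MvPolynomial.C c))) = _
        rw [MvPolynomial.eval₂Hom_C, RingHom.comp_apply, AlgHom.commutes,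
          ← IsScalarTower.algebraMap_apply, AlgHom.commutes] }
  have hh₀ : ∀ x, h₀ x = ev (g (ρ x)) := fun x => rfl
  have hπev : ∀ x, π₀ (h₀ x) = π₀ (q₀ x) := fun x => by
    have h1 : p (g (ρ x) - (1 : A') ⊗ₜ q₀ x) = 0 := by
      rw [map_sub, hρ, sub_eq_zero]
      exact (hΘ1 _).symm
    have h : ∀ w, π₀ (ev w) = TensorProduct.lid k B₀ (LinearMap.rTensor B₀ ε.toLinearMap (m w)) := fun w => by
      induction w using TensorProduct.induction_on with
      | zero => simp
      | tmul a x => rw [hev, map_smul]; rfl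
      | add w w' hw hw' => simp only [map_add, hw, hw']
    have h2 : π₀ (ev (g (ρ x) - (1 : A') ⊗ₜ q₀ x)) = 0 := by rw [h, hpker _ h1, map_zero, map_zero]
    rw [map_sub, map_sub, hev, map_one, one_smul, sub_eq_zero] at h2
    exact h2
  let d : MvPolynomial ι k → E₀ := fun x => Λ (D (ρ x))
  have hdJ : ∀ x, π₀ (d x) = 0 := fun x => hΛJ _ (by
    obtain ⟨y, hy, hyx⟩ := hDval (ρ x)
    rw [hyx, hgI y hy])
  have hmul : ∀ x y, d (x * y) = h₀ x * d y + h₀ y * d x := fun x y => by
    have key : ∀ x y, Λ (g (ρ x) * D (ρ y)) = h₀ x * d y := fun x y => by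
      have h1 : (g (ρ x) - (1 : A') ⊗ₜ q₀ x) * D (ρ y) = 0 := hpsq _ _ (by
        rw [map_sub, hρ, sub_eq_zero]; exact (hΘ1 _).symm) (by
        obtain ⟨w, hw, hwy⟩ := hDval (ρ y)
        rw [hwy, hgI w hw])
      have h2 : (h₀ x - q₀ x) * d y = 0 := hsq _ _ (by rw [map_sub, hπev, sub_self]) (hdJ y)
      rw [sub_mul, sub_eq_zero] at h1 h2
      rw [h1, hΛmul, h2]
    change Λ (D (ρ (x * y))) = _
    rw [map_mul, hDmul, map_add, key, key]
  obtain ⟨ψ, hψ⟩ := exists_algHom_sub h₀ d (fun x y => by simp [d]) hmul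
    (fun c => by
      change Λ (D (ρ (MvPolynomial.C c))) = 0
      rw [MvPolynomial.eval₂Hom_C, RingHom.comp_apply, hDA, map_zero])
    (fun x y => hsq _ _ (hdJ x) (hdJ y))
  refine ⟨ψ, fun x => by rw [hψ, map_sub, hdJ, sub_zero, hπev], fun x hx => ?_⟩
  have h1 : Ideal.Quotient.mk (Ideal.span {tB ^ (N + 1)}) (algebraMap P.Ring B (ρ x)) = 0 := by
    rw [← hg, hρ, hx, map_zero]
  obtain ⟨c, hc⟩ := Ideal.mem_span_singleton'.1 (Ideal.Quotient.eq_zero_iff_mem.1 h1)
  obtain ⟨c, rfl⟩ := P.algebraMap_surjective c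
  let i : P.Ring := ρ x - algebraMap A P.Ring (t ^ (N + 1)) * c
  have hi : i ∈ P.ker := by
    change algebraMap P.Ring B i = 0
    rw [map_sub, map_mul, ← IsScalarTower.algebraMap_apply, map_pow, ← hc, mul_comm, sub_self]
  have ht0 : algebraMap A E t ^ (N + 1) = 0 := by
    change (τ' ⊗ₜ[k] (1 : E₀)) ^ (N + 1) = 0
    rw [Algebra.TensorProduct.tmul_pow, hτ', TensorProduct.zero_tmul]
  have hg0 : g (algebraMap A P.Ring (t ^ (N + 1))) = 0 := by rw [AlgHom.commutes, map_pow, ht0]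
  have hD0 : D (ρ x) = algebraMap A E t ^ N * g (ρ x) := by
    have h2 : ρ x = i + algebraMap A P.Ring (t ^ (N + 1)) * c := (sub_add_cancel _ _).symm
    rw [h2, map_add, hDmul, hDA, mul_zero, add_zero, hg0, zero_mul, add_zero, hDI i hi, map_add, map_mul,
      hg0, zero_mul, add_zero]
  rw [hψ, hh₀, sub_eq_zero]
  change _ = Λ (D (ρ x))
  rw [hD0, hΛt]

end Groth.Agent.CotTLib.Rigid
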