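import Groth.Agent.CotTLib.Functor

/-!
# Smoothness off the zero locus of an element through the cotangent complex

For a finite presentation, `Spec B` is smooth over `A` on `D(f)` iff a power of `f` times the identity
of `I/I²` factors through the conormal map.
-/

universe u w t

open TensorProduct

noncomputable section

namespace Groth.Agent.CotTLib

open _root_.CotT

section Pow

variable {B : Type*} [CommRing B] {M N : Type*} [AddCommGroup M] [Module B M] [AddCommGroup N] [Module B N]

/-- A map out of a finite module, killed pointwise by powers of `f`, is killed by one power of `f`. -/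
lemma exists_pow_smul_linearMap_eq_zero [Module.Finite B M] (f : B) (l : M →ₗ[B] N)
    (h : ∀ x, ∃ m, f ^ m • l x = 0) : ∃ m, f ^ m • l = 0 := by
  classical
  obtain ⟨s, hs⟩ := Module.Finite.fg_top (R := B) (M := M)
  choose m hm using h
  refine ⟨s.sup m, LinearMap.ext_on hs fun x hx => ?_⟩
  rw [LinearMap.smul_apply, ← Nat.sub_add_cancel (Finset.le_sup (f := m) hx), pow_add, mul_smul, hm,
    smul_zero, LinearMap.zero_apply]

end Pow

variable {A B : Type u} {ι : Type w} {σ : Type t} [CommRing A] [CommRing B] [Algebra A B]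
variable (P : Algebra.Presentation A B ι σ)

lemma finite_cotangent [Finite σ] : Module.Finite B P.toExtension.Cotangent :=
  haveI : Module.Finite B (L1 P) := Module.Finite.of_basis (L1basis P)
  Module.Finite.of_surjective (toCot P) (toCot_surjective P)

/-- Smoothness on `D(f)` makes a power of `f` times the identity of `I/I²` factor through `L₀`. -/
theorem exists_pow_factor_of_basicOpen_subset [Algebra.FinitePresentation A B] [Finite σ] (f : B)
    (h : ↑(PrimeSpectrum.basicOpen f) ⊆ Algebra.smoothLocus A B) :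
    ∃ (n : ℕ) (φ : L0 P →ₗ[B] P.toExtension.Cotangent),
      φ ∘ₗ P.toExtension.cotangentComplex = f ^ n • LinearMap.id := by
  rw [Algebra.smoothLocus_eq_compl_support_inter, Set.subset_inter_iff, Set.subset_compl_comm,
    PrimeSpectrum.basicOpen_eq_zeroLocus_compl, compl_compl,
    ← LocalizedModule.subsingleton_iff_support_subset, ← PrimeSpectrum.basicOpen_eq_zeroLocus_compl,
    Module.basicOpen_subset_freeLocus_iff] at h
  obtain ⟨hH, hΩ⟩ := h
  have := finite_cotangent P
  let δ := P.toExtension.cotangentComplex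
  let π := P.toExtension.toKaehler
  have hker : ∀ x, δ x = 0 → ∃ m, f ^ m • x = 0 := fun x hx => by
    let z : P.toExtension.H1Cotangent := ⟨x, hx⟩
    obtain ⟨_, ⟨m, rfl⟩, hm⟩ :=
      (LocalizedModule.subsingleton_iff).1 hH (P.toGenerators.equivH1Cotangent z)
    have h0 : f ^ m • z = 0 := P.toGenerators.equivH1Cotangent.injective (by
      rw [map_smul, map_zero]; exact hm)
    exact ⟨m, congrArg Subtype.val h0⟩
  let S := Submonoid.powers f
  obtain ⟨sec, hsec⟩ := Module.projective_lifting_property (R := Localization S)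
    (LocalizedModule.map S π) LinearMap.id
    (LocalizedModule.map_surjective S π P.toExtension.toKaehler_surjective)
  let l₀ : Ω[B⁄A] →ₗ[B] LocalizedModule S (L0 P) :=
    sec.restrictScalars B ∘ₗ LocalizedModule.mkLinearMap S (Ω[B⁄A])
  obtain ⟨g, s, hg⟩ := Module.FinitePresentation.exists_lift_of_isLocalizedModule
    (N' := LocalizedModule S (L0 P)) S (LocalizedModule.mkLinearMap S (L0 P)) l₀
  obtain ⟨a, ha⟩ := s.2
  have hpt : ∀ x, ∃ m, f ^ m • (π ∘ₗ g - f ^ a • LinearMap.id : Ω[B⁄A] →ₗ[B] Ω[B⁄A]) x = 0 := fun x => by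
    have h1 : LocalizedModule.mkLinearMap S _ (π (g x)) =
        LocalizedModule.mkLinearMap S (Ω[B⁄A]) ((s : B) • x) := by
      have h2 : LocalizedModule.mkLinearMap S (L0 P) (g x) =
          (s : B) • sec (LocalizedModule.mkLinearMap S (Ω[B⁄A]) x) := LinearMap.congr_fun hg x
      have h3 := congrArg (LocalizedModule.map S π) h2
      rw [LinearMap.map_smul_of_tower, show (LocalizedModule.map S π) (sec _) = _ from
        LinearMap.congr_fun hsec _, LinearMap.id_apply] at h3
      rw [map_smul, ← h3, LocalizedModule.mkLinearMap_apply, LocalizedModule.mkLinearMap_apply,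
        LocalizedModule.map_mk]
    obtain ⟨⟨_, m, rfl⟩, hm⟩ := IsLocalizedModule.exists_of_eq (S := S) h1
    exact ⟨m, by simpa [smul_sub, sub_eq_zero, ← ha, Submonoid.smul_def] using hm⟩
  obtain ⟨b, hb⟩ := exists_pow_smul_linearMap_eq_zero f _ hpt
  have hg' : ∀ x, π (f ^ b • g x) = f ^ (b + a) • x := fun x => by
    have := LinearMap.congr_fun hb x
    simp only [LinearMap.smul_apply, LinearMap.sub_apply, LinearMap.comp_apply, LinearMap.id_apply,
      LinearMap.zero_apply, smul_sub, smul_smul, ← pow_add, sub_eq_zero] at this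
    rw [map_smul, this]
  have hlift : ∀ i, ∃ c, δ c = f ^ (b + a) • P.cotangentSpaceBasis i -
      f ^ b • g (π (P.cotangentSpaceBasis i)) := fun i => by
    refine (P.toExtension.exact_cotangentComplex_toKaehler _).1 ?_
    rw [map_sub, hg', map_smul, sub_self]
  choose c hc using hlift
  let φ₀ : L0 P →ₗ[B] P.toExtension.Cotangent := P.cotangentSpaceBasis.constr B c
  have hφ₀ : δ ∘ₗ φ₀ = f ^ (b + a) • LinearMap.id - (f ^ b • g) ∘ₗ π := by
    refine P.cotangentSpaceBasis.ext fun i => ?_
    simp [φ₀, hc, Module.Basis.constr_basis]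
  obtain ⟨m, hm⟩ := exists_pow_smul_linearMap_eq_zero f (φ₀ ∘ₗ δ - f ^ (b + a) • LinearMap.id) fun x => by
    refine hker _ ?_
    have h1 := LinearMap.congr_fun hφ₀ (δ x)
    have h2 : π (δ x) = 0 := (P.toExtension.exact_cotangentComplex_toKaehler _).2 ⟨x, rfl⟩
    simp only [LinearMap.comp_apply, LinearMap.sub_apply, LinearMap.smul_apply, LinearMap.id_apply, h2,
      map_zero, sub_zero] at h1
    simp only [LinearMap.sub_apply, LinearMap.smul_apply, LinearMap.comp_apply, LinearMap.id_apply,
      map_sub, map_smul, h1, sub_self]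
  refine ⟨m + (b + a), f ^ m • φ₀, ?_⟩
  rw [smul_sub, sub_eq_zero] at hm
  rw [LinearMap.smul_comp, hm, smul_smul, ← pow_add]

/-- If a power of `f` times the identity of `I/I²` factors through `L₀`, then `B` is smooth on `D(f)`. -/
theorem basicOpen_subset_of_pow_factor [Algebra.FinitePresentation A B] (f : B) (n : ℕ)
    (φ : L0 P →ₗ[B] P.toExtension.Cotangent)
    (hφ : φ ∘ₗ P.toExtension.cotangentComplex = f ^ n • LinearMap.id) :
    ↑(PrimeSpectrum.basicOpen f) ⊆ Algebra.smoothLocus A B := by
  rw [Algebra.smoothLocus_eq_compl_support_inter, Set.subset_inter_iff, Set.subset_compl_comm,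
    PrimeSpectrum.basicOpen_eq_zeroLocus_compl, compl_compl,
    ← LocalizedModule.subsingleton_iff_support_subset, ← PrimeSpectrum.basicOpen_eq_zeroLocus_compl,
    Module.basicOpen_subset_freeLocus_iff]
  let δ := P.toExtension.cotangentComplex
  let π := P.toExtension.toKaehler
  let S := Submonoid.powers f
  refine ⟨LocalizedModule.subsingleton_iff.2 fun z => ⟨f ^ n, ⟨n, rfl⟩, ?_⟩, ?_⟩
  · obtain ⟨z, rfl⟩ := P.toGenerators.equivH1Cotangent.surjective z
    rw [← map_smul, LinearEquiv.map_eq_zero_iff]
    apply Subtype.ext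
    have h1 := LinearMap.congr_fun hφ z.1
    rw [LinearMap.comp_apply, show δ z.1 = 0 from z.2, map_zero] at h1
    exact h1.symm
  · let ψ : L0 P →ₗ[B] L0 P := f ^ n • LinearMap.id - δ ∘ₗ φ
    have hψ : LinearMap.ker π ≤ LinearMap.ker ψ := fun y hy => by
      obtain ⟨x, rfl⟩ := (P.toExtension.exact_cotangentComplex_toKaehler y).1 hy
      have h1 : φ (δ x) = f ^ n • x := LinearMap.congr_fun hφ x
      change f ^ n • δ x - δ (φ (δ x)) = 0
      rw [h1, map_smul, sub_self]
    let σ₀ : Ω[B⁄A] →ₗ[B] L0 P := (LinearMap.ker π).liftQ ψ hψ ∘ₗ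
      (π.quotKerEquivOfSurjective P.toExtension.toKaehler_surjective).symm.toLinearMap
    have hσ₀ : π ∘ₗ σ₀ = f ^ n • LinearMap.id := by
      refine LinearMap.ext fun x => ?_
      obtain ⟨y, rfl⟩ := P.toExtension.toKaehler_surjective x
      have h1 : (π.quotKerEquivOfSurjective P.toExtension.toKaehler_surjective).symm (π y) =
          Submodule.Quotient.mk y := (LinearEquiv.symm_apply_eq _).2 rfl
      have h2 : π (δ (φ y)) = 0 := (P.toExtension.exact_cotangentComplex_toKaehler _).2 ⟨_, rfl⟩
      simp [σ₀, π, h1, ψ] at h2 ⊢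
      exact h2
    have := Module.Projective.of_basis P.cotangentSpaceBasis
    have hu : IsUnit (algebraMap B (Localization S) (f ^ n)) :=
      IsLocalization.map_units _ (⟨f ^ n, n, rfl⟩ : S)
    refine Module.Projective.of_split (R := Localization S) (M := LocalizedModule S (L0 P))
      ((hu.unit⁻¹ : (Localization S)ˣ).1 • LocalizedModule.map S σ₀) (LocalizedModule.map S π) ?_
    refine LinearMap.ext fun z => ?_
    induction z using LocalizedModule.induction_on with
    | _ x s =>
      have h1 : π (σ₀ x) = f ^ n • x := LinearMap.congr_fun hσ₀ x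
      rw [LinearMap.comp_apply, LinearMap.smul_apply, map_smul, LocalizedModule.map_mk,
        LocalizedModule.map_mk, h1, ← LocalizedModule.smul'_mk, ← algebraMap_smul (Localization S) (f ^ n),
        smul_smul, hu.val_inv_mul, one_smul, LinearMap.id_apply]

end Groth.Agent.CotTLib
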