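import Groth.Agent.CotTLib.Nine
import Groth.Agent.CotTLib.Koszul
import Groth.Agent.RegLoc.Basic

/-!
# Vanishing of `T¹` and `T²`

* `T¹(B/A, -) = 0` iff `B` is formally smooth over `A`;
* if the relations with coefficients in `I` are trivial and `I/I²` is projective then `T² = 0`.
-/

universe u v w t m

open TensorProduct

noncomputable section

namespace Groth.Agent.CotTLib

open _root_.CotT

variable {A : Type u} {B : Type v} {ι : Type w} {σ : Type t}
variable [CommRing A] [CommRing B] [Algebra A B]
variable (P : Algebra.Presentation A B ι σ)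

instance formallySmooth_ring : Algebra.FormallySmooth A P.toExtension.Ring :=
  inferInstanceAs (Algebra.FormallySmooth A (MvPolynomial ι A))

lemma mem_trivRel_iff_koszul (c : relMod P) : c ∈ trivRel P ↔ c ∈ koszul (rel P) := Iff.rfl

lemma algebraMap_apply_of_one_tmul_eq_zero {f : relMod P} (h : (1 : B) ⊗ₜ[P.toExtension.Ring] f = (0 : L1 P)) (s : σ) :
    algebraMap P.toExtension.Ring B (f s) = 0 := by
  have : (L1basis P).repr ((1 : B) ⊗ₜ f) s = algebraMap P.toExtension.Ring B (f s) := by
    simp [L1basis, Algebra.TensorProduct.basis_repr_tmul]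
  rw [← this, h, map_zero]
  rfl

lemma d2_injective (h : ∀ q : relKer P, (∀ s, algebraMap P.toExtension.Ring B ((q : relMod P) s) = 0) →
    (q : relMod P) ∈ trivRel P) : Function.Injective (d2 P) := by
  rw [injective_iff_map_eq_zero]
  intro z hz
  obtain ⟨q, rfl⟩ := cls_surjective P z
  rw [d2_cls] at hz
  exact cls_eq_zero P (h q (algebraMap_apply_of_one_tmul_eq_zero P hz))

lemma d2_injective_of_trivial (h : ∀ q : relKer P, (q : relMod P) ∈ trivRel P) : Function.Injective (d2 P) :=
  d2_injective P fun q _ => h q

variable (M : Type m) [AddCommGroup M] [Module B M]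

/-- If all relations are trivial, `T² = 0`. -/
lemma subsingleton_T2_of_trivial (h : ∀ q : relKer P, (q : relMod P) ∈ trivRel P) :
    Subsingleton (T2 P M) := by
  refine ⟨fun x y => ?_⟩
  induction x using Submodule.Quotient.induction_on with
  | H x =>
    induction y using Submodule.Quotient.induction_on with
    | H y =>
      congr 1
      exact linearMap_ext_L2 P fun q => by rw [cls_eq_zero P (h q), map_zero, map_zero]

/-- If `d₂` is injective and `I/I²` projective, `T² = 0`. -/
theorem subsingleton_T2 (h : Function.Injective (d2 P)) [Module.Projective B P.toExtension.Cotangent] :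
    Subsingleton (T2 P M) := by
  obtain ⟨s, hs⟩ := Module.projective_lifting_property (toCot P) LinearMap.id (toCot_surjective P)
  have hker : ∀ x, x - s (toCot P x) ∈ LinearMap.range (d2 P) := fun x =>
    (exact_d2_toCot P _).1 (by
      rw [map_sub, show toCot P (s (toCot P x)) = toCot P x from LinearMap.congr_fun hs _, sub_self])
  let π : L1 P →ₗ[B] L2 P := (LinearEquiv.ofInjective (d2 P) h).symm.toLinearMap ∘ₗ
    (LinearMap.id - s ∘ₗ toCot P).codRestrict _ hker
  have hπ : ∀ z, π (d2 P z) = z := fun z => by
    refine (LinearEquiv.symm_apply_eq _).2 (Subtype.ext ?_)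
    change d2 P z - s (toCot P (d2 P z)) = d2 P z
    rw [(exact_d2_toCot P _).2 ⟨z, rfl⟩, map_zero, sub_zero]
  refine ⟨fun x y => ?_⟩
  induction x using Submodule.Quotient.induction_on with
  | H x =>
    induction y using Submodule.Quotient.induction_on with
    | H y =>
      rw [← sub_eq_zero, ← Submodule.Quotient.mk_sub, T2_mk_eq_zero_iff]
      exact ⟨(x - y) ∘ₗ π, LinearMap.ext fun z => congrArg (x - y) (hπ z)⟩

/-- A retraction of `I/I² → L₀` makes `T¹` vanish. -/
theorem subsingleton_T1_of_retraction {l : L0 P →ₗ[B] P.toExtension.Cotangent}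
    (hl : l ∘ₗ P.toExtension.cotangentComplex = LinearMap.id) : Subsingleton (T1 P M) := by
  refine ⟨fun x y => ?_⟩
  obtain ⟨φ, hφ⟩ := homToT1_surjective P M (x - y)
  rw [← sub_eq_zero, ← hφ, homToT1_eq_zero_iff]
  exact ⟨φ ∘ₗ l, by rw [LinearMap.comp_assoc, hl, LinearMap.comp_id]⟩

/-- Formal smoothness kills `T¹`. -/
theorem subsingleton_T1_of_formallySmooth [Algebra.FormallySmooth A B] : Subsingleton (T1 P M) := by
  obtain ⟨l, hl⟩ := (Algebra.Extension.formallySmooth_iff_split_injection P.toExtension).1 inferInstance
  exact subsingleton_T1_of_retraction P M hl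

instance [Algebra.FormallySmooth A B] : Module.Projective B P.toExtension.Cotangent := by
  obtain ⟨l, hl⟩ := (Algebra.Extension.formallySmooth_iff_split_injection P.toExtension).1 inferInstance
  have : Module.Projective B P.toExtension.CotangentSpace :=
    Module.Projective.of_basis P.cotangentSpaceBasis
  exact Module.Projective.of_split P.toExtension.cotangentComplex l hl

end Groth.Agent.CotTLib

namespace Groth.Agent.CotTLib

open _root_.CotT

variable {A B ι σ : Type u} [CommRing A] [CommRing B] [Algebra A B]
variable (P : Algebra.Presentation A B ι σ)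

/-- If `T¹` vanishes for every module, the algebra is formally smooth. -/
theorem formallySmooth_of_T1
    (h : ∀ (M : Type u) [AddCommGroup M] [Module B M], Subsingleton (T1 P M)) :
    Algebra.FormallySmooth A B := by
  have := h P.toExtension.Cotangent
  obtain ⟨ψ, hψ⟩ := (homToT1_eq_zero_iff P P.toExtension.Cotangent LinearMap.id).1 (Subsingleton.elim _ _)
  exact (Algebra.Extension.formallySmooth_iff_split_injection P.toExtension).2 ⟨ψ, hψ⟩

theorem formallySmooth_iff_T1_canon :
    Algebra.FormallySmooth A B ↔
      ∀ (M : Type u) [AddCommGroup M] [Module B M], Subsingleton (T1 (canon A B) M) :=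
  ⟨fun _ M _ _ => subsingleton_T1_of_formallySmooth _ M, fun h => formallySmooth_of_T1 _ h⟩

/-- `T²` of a formally smooth algebra vanishes if locally the relation ideal is generated by weakly
regular sequences. -/
theorem subsingleton_T2_of_locallyRegular [Algebra.FormallySmooth A B]
    (hloc : ∀ (p : Ideal P.toExtension.Ring) [p.IsMaximal], ∃ (r : ℕ) (y : Fin r → Localization.AtPrime p),
      RingTheory.Sequence.IsWeaklyRegular (Localization.AtPrime p) (List.ofFn y) ∧
      Ideal.span (Set.range fun s => algebraMap P.toExtension.Ring (Localization.AtPrime p) (rel P s)) =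
        Ideal.span (Set.range y))
    (M : Type u) [AddCommGroup M] [Module B M] : Subsingleton (T2 (canon A B) M) := by
  have h2 : Subsingleton (T2 P M) := by
    refine subsingleton_T2 P M (d2_injective P fun q hq => ?_)
    refine (mem_trivRel_iff_koszul P _).2 (mem_koszul_of_local _ _ fun p _ => ?_)
    obtain ⟨r, y, hy, hspan⟩ := hloc p
    let L := Localization.AtPrime p
    have hj : ∀ a : relMod P, jf (fun s => algebraMap P.toExtension.Ring L (rel P s))
        (a.mapRange (algebraMap P.toExtension.Ring L) (map_zero _)) = algebraMap _ L (jmap P a) := fun a => by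
      induction a using Finsupp.induction_linear with
      | zero => simp
      | add a b ha hb => rw [Finsupp.mapRange_add (map_add _), map_add, ha, hb, map_add, map_add]
      | single s r => simp
    refine mem_koszul_of_coeff_mem _ y hy hspan _ ?_ fun s => ?_
    · rw [hj, show jmap P (q : relMod P) = 0 from q.2, map_zero]
    · rw [Finsupp.mapRange_apply]
      obtain ⟨a, ha⟩ := exists_jmap_eq P (hq s)
      rw [← ha, ← hj]
      exact Finsupp.mem_span_range_iff_exists_finsupp.2 ⟨_, rfl⟩
  exact (T2equiv (canon A B) M P).toEquiv.subsingleton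

end Groth.Agent.CotTLib
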